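import Mathlib

/-!
An elementary abelian 2-group of automorphisms of a group of odd prime power order acts faithfully on an
invariant abelian subgroup of prime exponent.
-/

set_option autoImplicit false
set_option linter.unusedSectionVars false

namespace Cfsg.Agent.GenA.OneClass

open Subgroup
open scoped commutatorElement

variable {K : Type*} [Group K] [Finite K] {p : ℕ} [hp : Fact p.Prime]

theorem eq_one_of_sq {x : K} (hK : IsPGroup p K) (hp2 : p ≠ 2) (h : x * x = 1) : x = 1 := by
  obtain ⟨k, hk⟩ := IsPGroup.iff_orderOf.mp hK x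
  have h2 : orderOf x ∣ 2 := orderOf_dvd_of_pow_eq_one (by rw [pow_two, h])
  have hcop : (p ^ k).Coprime 2 := ((Nat.coprime_primes hp.out Nat.prime_two).mpr hp2).pow_left k
  exact orderOf_eq_one_iff.mp (Nat.eq_one_of_dvd_coprimes hcop hk.dvd h2)

/-- An element, central modulo `B`, sent by each of finitely many commuting involutions to itself or its
inverse modulo `B`. -/
theorem exists_eigen (hp2 : p ≠ 2) {C : Type*} [Group C] [Finite C] (hC : IsPGroup p C) [Nontrivial C]
    (s : Finset (MulAut C)) (hs : ∀ e ∈ s, e * e = 1) (hcomm : ∀ e ∈ s, ∀ f ∈ s, e * f = f * e) :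
    ∃ x ∈ center C, x ≠ 1 ∧ ∀ e ∈ s, e x = x ∨ e x = x⁻¹ := by
  classical
  induction s using Finset.induction with
  | empty =>
    haveI := hC.center_nontrivial
    obtain ⟨⟨x, hx⟩, hx1⟩ := exists_ne (1 : center C)
    exact ⟨x, hx, fun h => hx1 (Subtype.ext h), by simp⟩
  | insert f s hf ih =>
    obtain ⟨x, hx, hx1, hxs⟩ := ih (fun e he => hs e (Finset.mem_insert_of_mem he))
      (fun e he g hg => hcomm e (Finset.mem_insert_of_mem he) g (Finset.mem_insert_of_mem hg))
    by_cases hfx : x * f x = 1
    · refine ⟨x, hx, hx1, fun e he => ?_⟩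
      rcases Finset.mem_insert.mp he with rfl | he
      · exact Or.inr (eq_inv_of_mul_eq_one_right hfx)
      · exact hxs e he
    have hfc : f x ∈ center C := mem_center_iff.mpr fun g => by
      obtain ⟨g, rfl⟩ := f.surjective g
      rw [← map_mul, ← map_mul, mem_center_iff.mp hx g]
    refine ⟨x * f x, mul_mem hx hfc, hfx, fun e he => ?_⟩
    have hff : f (f x) = x := by
      rw [← MulAut.mul_apply, hs f (Finset.mem_insert_self f s), MulAut.one_apply]
    rcases Finset.mem_insert.mp he with rfl | he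
    · left; rw [map_mul, hff]; exact mem_center_iff.mp hx _
    · have hcm : e (f x) = f (e x) := by
        rw [← MulAut.mul_apply, hcomm e (Finset.mem_insert_of_mem he) f (Finset.mem_insert_self f s),
          MulAut.mul_apply]
      rcases hxs e he with h | h
      · left; rw [map_mul, hcm, h]
      · right
        rw [map_mul, hcm, h, map_inv, mul_inv_rev]
        exact mem_center_iff.mp (inv_mem hfc) _

theorem exists_abelian (hp2 : p ≠ 2) (hK : IsPGroup p K) (E : Subgroup (MulAut K))
    (hE : ∀ e ∈ E, e * e = 1) :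
    ∃ B : Subgroup K, IsMulCommutative B ∧ (∀ b ∈ B, b ^ p = 1) ∧ (∀ e ∈ E, ∀ b ∈ B, e b ∈ B) ∧
      ∀ e ∈ E, (∀ b ∈ B, e b = b) → e = 1 := by
  classical
  have hEc : ∀ e ∈ E, ∀ f ∈ E, e * f = f * e := fun e he f hf => by
    have hinv : ∀ g ∈ E, g⁻¹ = g := fun g hg => inv_eq_of_mul_eq_one_right (hE g hg)
    rw [← hinv _ (mul_mem he hf), mul_inv_rev, hinv e he, hinv f hf]
  obtain ⟨B, -, ⟨hBc, hBi⟩, hmax⟩ := Set.Finite.exists_le_maximal
    (Set.toFinite {B : Subgroup K | (∀ a ∈ B, ∀ b ∈ B, a * b = b * a) ∧ ∀ e ∈ E, ∀ b ∈ B, e b ∈ B}) (a := ⊥)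
    ⟨fun a ha b hb => by rw [mem_bot.mp ha, mem_bot.mp hb], fun e _ b hb => by
      rw [mem_bot.mp hb, map_one]; exact one_mem _⟩
  -- self-centralizing
  have hself : centralizer (B : Set K) ≤ B := by
    by_contra hne
    set C := centralizer (B : Set K) with hC
    have hBC : B ≤ C := fun b hb => mem_centralizer_iff.mpr fun a ha => hBc a ha b hb
    have hCi : ∀ e ∈ E, ∀ c ∈ C, e c ∈ C := fun e he c hc => mem_centralizer_iff.mpr fun a ha => by
      have h := hBi e he a ha
      have hee : e (e a) = a := by rw [← MulAut.mul_apply, hE e he, MulAut.one_apply]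
      calc a * e c = e (e a) * e c := by rw [hee]
        _ = e c * e (e a) := by rw [← map_mul, mem_centralizer_iff.mp hc _ h, map_mul]
        _ = _ := by rw [hee]
    haveI hBn : (B.subgroupOf C).Normal := ⟨fun b hb c => by
      have h : (b : K) * c = c * b := mem_centralizer_iff.mp c.2 _ hb
      show (c : K) * b * (c : K)⁻¹ ∈ B
      rw [← h, mul_inv_cancel_right]; exact hb⟩
    haveI : Nontrivial (C ⧸ B.subgroupOf C) := by
      obtain ⟨c, hc, hcB⟩ := SetLike.not_le_iff_exists.mp hne
      exact nontrivial_of_ne (QuotientGroup.mk ⟨c, hc⟩) 1 fun h =>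
        hcB (mem_subgroupOf.mp ((QuotientGroup.eq_one_iff (⟨c, hc⟩ : C)).mp h))
    let res : ∀ e ∈ E, MulAut C := fun e he =>
      { toFun := fun c => ⟨e c, hCi e he c c.2⟩
        invFun := fun c => ⟨e c, hCi e he c c.2⟩
        left_inv := fun c => Subtype.ext (by
          show e (e (c : K)) = c
          rw [← MulAut.mul_apply, hE e he, MulAut.one_apply])
        right_inv := fun c => Subtype.ext (by
          show e (e (c : K)) = c
          rw [← MulAut.mul_apply, hE e he, MulAut.one_apply])
        map_mul' := fun c d => Subtype.ext (map_mul e (c : K) d) }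
    let qaut : ∀ e ∈ E, MulAut (C ⧸ B.subgroupOf C) := fun e he =>
      QuotientGroup.congr _ _ (res e he) (le_antisymm (by rintro _ ⟨c, hc, rfl⟩; exact hBi e he _ hc)
        (fun c hc => ⟨res e he c, hBi e he _ hc, (res e he).symm_apply_apply c⟩))
    have hq : ∀ e (he : e ∈ E) (c : C), qaut e he (QuotientGroup.mk c) = QuotientGroup.mk (res e he c) :=
      fun e he c => rfl
    letI : Fintype E := Fintype.ofFinite E
    obtain ⟨x, hxc, hx1, hxe⟩ := exists_eigen hp2 ((hK.to_subgroup C).to_quotient (B.subgroupOf C))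
      (Finset.univ.image fun e : E => qaut e.1 e.2) (by
        intro g hg
        obtain ⟨⟨e, he⟩, -, rfl⟩ := Finset.mem_image.mp hg
        refine MulEquiv.ext fun z => ?_
        obtain ⟨c, rfl⟩ := QuotientGroup.mk'_surjective _ z
        show (QuotientGroup.mk (res e he (res e he c)) : C ⧸ B.subgroupOf C) = QuotientGroup.mk c
        exact congrArg QuotientGroup.mk (Subtype.ext (by
          show e (e (c : K)) = c
          rw [← MulAut.mul_apply, hE e he, MulAut.one_apply]))) (by
        intro g hg g' hg'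
        obtain ⟨⟨e, he⟩, -, rfl⟩ := Finset.mem_image.mp hg
        obtain ⟨⟨f, hf⟩, -, rfl⟩ := Finset.mem_image.mp hg'
        refine MulEquiv.ext fun z => ?_
        obtain ⟨c, rfl⟩ := QuotientGroup.mk'_surjective _ z
        show (QuotientGroup.mk (res e he (res f hf c)) : C ⧸ B.subgroupOf C) = QuotientGroup.mk (res f hf (res e he c))
        exact congrArg QuotientGroup.mk (Subtype.ext (by
          show e (f (c : K)) = f (e (c : K))
          rw [← MulAut.mul_apply, hEc e he f hf, MulAut.mul_apply])))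
    obtain ⟨⟨x, hxC⟩, rfl⟩ := QuotientGroup.mk'_surjective _ x
    have hxB : x ∉ B := fun h => hx1 ((QuotientGroup.eq_one_iff (⟨x, hxC⟩ : C)).mpr (mem_subgroupOf.mpr h))
    set B' := closure (insert x (B : Set K)) with hB'
    have hsub : B ≤ B' := fun b hb => subset_closure (Set.mem_insert_of_mem _ hb)
    have hxB' : x ∈ B' := subset_closure (Set.mem_insert _ _)
    refine hxB ((hmax (y := B') ⟨?_, ?_⟩ hsub) hxB')
    · have hcen : B' ≤ centralizer (B' : Set K) := by
        rw [hB', centralizer_closure, closure_le]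
        intro a ha
        rw [SetLike.mem_coe, mem_centralizer_iff]
        intro b hb
        rcases Set.mem_insert_iff.mp ha with h1 | h1 <;> rcases Set.mem_insert_iff.mp hb with h2 | h2
        · rw [h1, h2]
        · rw [h1]; exact mem_centralizer_iff.mp hxC b h2
        · rw [h2]; exact (mem_centralizer_iff.mp hxC a h1).symm
        · exact hBc b h2 a h1
      exact fun a ha b hb => (mem_centralizer_iff.mp (hcen ha) b hb).symm
    · intro e he b hb
      induction hb using Subgroup.closure_induction with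
      | mem b hb =>
        rcases Set.mem_insert_iff.mp hb with rfl | hb
        · rcases hxe _ (Finset.mem_image.mpr ⟨⟨e, he⟩, Finset.mem_univ _, rfl⟩) with h | h
          · have h' := mem_subgroupOf.mp (QuotientGroup.eq.mp h.symm)
            have := mul_mem hxB' (hsub h')
            simpa [res] using this
          · have h0 : qaut e he (QuotientGroup.mk ⟨b, hxC⟩) = QuotientGroup.mk (⟨b, hxC⟩⁻¹ : C) := h
            have h' := mem_subgroupOf.mp (QuotientGroup.eq.mp h0.symm)
            have := mul_mem (inv_mem hxB') (hsub h')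
            simpa [res] using this
        · exact hsub (hBi e he b hb)
      | one => rw [map_one]; exact one_mem _
      | mul a b _ _ ha hb => rw [map_mul]; exact mul_mem ha hb
      | inv a _ ha => rw [map_inv]; exact inv_mem ha
  -- faithful
  have hfaith : ∀ e ∈ E, (∀ b ∈ B, e b = b) → e = 1 := by
    intro e he hfix
    let D : Subgroup K := MonoidHom.eqLocus e.toMonoidHom (MonoidHom.id K)
    by_contra hne
    have hD : D < ⊤ := lt_top_iff_ne_top.mpr fun h => hne (MulEquiv.ext fun k => (h.ge (mem_top k) : k ∈ D))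
    haveI := hK.isNilpotent
    obtain ⟨y, hy, hyD⟩ := SetLike.exists_of_lt (Group.normalizerCondition_of_isNilpotent D hD)
    refine hyD ?_
    set z := y⁻¹ * e y with hz
    have hzc : z ∈ centralizer (B : Set K) := mem_centralizer_iff.mpr fun d hd => by
      have hdD : e d = d := hfix d hd
      have h := (mem_normalizer_iff.mp hy d).mp hdD
      have h' : e y * d * (e y)⁻¹ = y * d * y⁻¹ := by
        have : e (y * d * y⁻¹) = y * d * y⁻¹ := h
        rwa [map_mul, map_mul, map_inv, hdD] at this
      calc d * z = y⁻¹ * (y * d * y⁻¹) * e y := by rw [hz]; group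
        _ = y⁻¹ * (e y * d * (e y)⁻¹) * e y := by rw [h']
        _ = z * d := by rw [hz]; group
    have hez : e z = z := hfix z (hself hzc)
    have hee : e (e y) = y := by rw [← MulAut.mul_apply, hE e he, MulAut.one_apply]
    have hez' : e z = z⁻¹ := by rw [hz, map_mul, map_inv, hee]; group
    have hz1 : z = 1 := eq_one_of_sq hK hp2 (mul_eq_one_iff_eq_inv.mpr (hez.symm.trans hez'))
    exact (inv_mul_eq_one.mp hz1).symm
  let B₀ : Subgroup K :=
    { carrier := {b | b ∈ B ∧ b ^ p = 1}
      one_mem' := ⟨one_mem B, one_pow p⟩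
      mul_mem' := fun {a b} ha hb => ⟨mul_mem ha.1 hb.1, by
        rw [Commute.mul_pow (hBc a ha.1 b hb.1), ha.2, hb.2, one_mul]⟩
      inv_mem' := fun {a} ha => ⟨inv_mem ha.1, by rw [inv_pow, ha.2, inv_one]⟩ }
  refine ⟨B₀, ⟨⟨fun a b => Subtype.ext (hBc a a.2.1 b b.2.1)⟩⟩, fun b hb => hb.2,
    fun e he b hb => ⟨hBi e he b hb.1, by rw [← map_pow, hb.2, map_one]⟩, fun e he hfix => ?_⟩
  refine hfaith e he fun b hb => ?_
  set z := b⁻¹ * e b with hz
  by_contra hne
  have hz1 : z ≠ 1 := fun h => hne (inv_mul_eq_one.mp h).symm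
  have hzB : z ∈ B := mul_mem (inv_mem hb) (hBi e he b hb)
  obtain ⟨k, hk⟩ := IsPGroup.iff_orderOf.mp hK z
  obtain ⟨k, rfl⟩ : ∃ j, k = j + 1 := by
    rcases k with _ | j
    · exact absurd (orderOf_eq_one_iff.mp (by simpa using hk)) hz1
    · exact ⟨j, rfl⟩
  set u := z ^ p ^ k
  have hu1 : u ≠ 1 := fun h => by
    have := Nat.le_of_dvd (pow_pos hp.out.pos k) (hk ▸ orderOf_dvd_of_pow_eq_one h)
    exact absurd this (not_le.mpr (Nat.pow_lt_pow_right hp.out.one_lt (Nat.lt_succ_self k)))
  have huB : u ∈ B₀ := ⟨pow_mem hzB _, by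
    rw [← pow_mul, ← pow_succ, ← hk, pow_orderOf_eq_one]⟩
  have hee : e (e b) = b := by rw [← MulAut.mul_apply, hE e he, MulAut.one_apply]
  have hez : e z = z⁻¹ := by rw [hz, map_mul, map_inv, hee]; group
  have heu : e u = u⁻¹ := by rw [map_pow, hez, inv_pow]
  exact hu1 (eq_one_of_sq hK hp2 (mul_eq_one_iff_eq_inv.mpr ((hfix u huB).symm.trans heu)))

end Cfsg.Agent.GenA.OneClass
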