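import Mathlib
import Cfsg.Agent.Lib.Coprime.Generation

/-!
An elementary abelian group of odd exponent acting faithfully and by isometries on an anisotropic quadratic
map between elementary abelian 2-groups, normalized by many commuting involutive isometries, whose fibres
over the nontrivial values have equal size, forces at most two values.
-/

set_option autoImplicit false
set_option linter.unusedSectionVars false

namespace Cfsg.Agent.GenA.OneClass

open Subgroup

variable {A V B : Type*} [CommGroup A] [CommGroup V] [CommGroup B] [Finite B]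

/-- The associated pairing. -/
def beta (q : A → V) (a b : A) : V := q (a * b) * q a * q b

/-- An anisotropic quadratic map between elementary abelian 2-groups. -/
structure Quad (q : A → V) : Prop where
  sqA : ∀ a : A, a * a = 1
  sqV : ∀ v : V, v * v = 1
  beta_mul : ∀ a b c : A, beta q (a * b) c = beta q a c * beta q b c
  aniso : ∀ a : A, q a = 1 → a = 1

namespace Quad

variable {q : A → V} (hQ : Quad q)
include hQ

theorem map_one : q 1 = 1 := by
  have h := hQ.beta_mul 1 1 1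
  rw [one_mul] at h
  have h2 : beta q 1 1 = 1 := mul_eq_left.mp h.symm
  rw [beta, one_mul, mul_assoc, hQ.sqV, mul_one] at h2
  exact h2

theorem map_mul (a b : A) : q (a * b) = q a * q b * beta q a b := by
  calc q (a * b) = q (a * b) * ((q a * q b) * (q a * q b)) := by rw [hQ.sqV, mul_one]
    _ = _ := by rw [beta]; ac_rfl

theorem beta_comm (a b : A) : beta q a b = beta q b a := by
  rw [beta, beta, mul_comm a b, mul_assoc, mul_assoc, mul_comm (q a)]

theorem beta_one (a : A) : beta q a 1 = 1 := by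
  rw [beta, mul_one, hQ.map_one, mul_one, hQ.sqV]

theorem beta_mul' (a b c : A) : beta q a (b * c) = beta q a b * beta q a c := by
  rw [hQ.beta_comm, hQ.beta_mul, hQ.beta_comm b, hQ.beta_comm c]

theorem beta_apply (φ : MulAut A) (hφ : ∀ a, q (φ a) = q a) (a b : A) : beta q (φ a) (φ b) = beta q a b := by
  rw [beta, beta, ← _root_.map_mul φ, hφ, hφ, hφ]

theorem beta_prod {ι : Type*} (a : A) (s : Finset ι) (f : ι → A) :
    beta q a (∏ i ∈ s, f i) = ∏ i ∈ s, beta q a (f i) := by
  classical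
  induction s using Finset.induction with
  | empty => simp [hQ.beta_one]
  | insert i s hi ih => rw [Finset.prod_insert hi, Finset.prod_insert hi, hQ.beta_mul', ih]

theorem pow_odd {n : ℕ} (hn : Odd n) (a : A) : a ^ n = a := by
  obtain ⟨k, rfl⟩ := hn
  rw [pow_succ, pow_mul, pow_two, hQ.sqA, one_pow, one_mul]

end Quad

/-- The elements fixed by `H`. -/
def fixd (φ : B →* MulAut A) (H : Subgroup B) : Subgroup A where
  carrier := {a | ∀ h ∈ H, φ h a = a}
  one_mem' := fun h _ => map_one (φ h)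
  mul_mem' := fun {a b} ha hb h hh => by rw [map_mul, ha h hh, hb h hh]
  inv_mem' := fun {a} ha h hh => by rw [map_inv, ha h hh]

/-- The stabilizer of an element. -/
def stab (φ : B →* MulAut A) (a : A) : Subgroup B where
  carrier := {h | φ h a = a}
  one_mem' := by simp
  mul_mem' := fun {h k} hh hk => by
    show φ (h * k) a = a
    rw [map_mul, MulAut.mul_apply, hk, hh]
  inv_mem' := fun {h} hh => by
    show φ h⁻¹ a = a
    calc φ h⁻¹ a = φ h⁻¹ (φ h a) := by rw [hh]
      _ = a := by rw [← MulAut.mul_apply, ← map_mul, inv_mul_cancel, map_one, MulAut.one_apply]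

theorem apply_comm (φ : B →* MulAut A) (b c : B) (a : A) : φ b (φ c a) = φ c (φ b a) := by
  rw [← MulAut.mul_apply, ← map_mul, mul_comm b c, map_mul, MulAut.mul_apply]

/-- The product of all images. -/
noncomputable def nrm (φ : B →* MulAut A) : A →* A :=
  letI := Fintype.ofFinite B
  MonoidHom.mk' (fun a => ∏ b : B, φ b a) fun a c => by simp only [map_mul, Finset.prod_mul_distrib]

theorem nrm_apply [Fintype B] (φ : B →* MulAut A) (a : A) : nrm φ a = ∏ b : B, φ b a := by
  unfold nrm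
  simp only [MonoidHom.mk'_apply]
  congr 2
  exact Subsingleton.elim _ _

theorem apply_nrm (φ : B →* MulAut A) (c : B) (a : A) : φ c (nrm φ a) = nrm φ a := by
  letI := Fintype.ofFinite B
  rw [nrm_apply, map_prod]
  exact Fintype.prod_equiv (Equiv.mulLeft c) _ _ fun b => by
    rw [Equiv.coe_mulLeft, map_mul φ, MulAut.mul_apply]

theorem nrm_apply_comm (φ : B →* MulAut A) (c : B) (a : A) : nrm φ (φ c a) = nrm φ a := by
  letI := Fintype.ofFinite B
  rw [nrm_apply, nrm_apply]
  exact Fintype.prod_equiv (Equiv.mulRight c) _ _ fun b => by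
    rw [Equiv.coe_mulRight, map_mul φ, MulAut.mul_apply]

/-- The part belonging to `H`. -/
noncomputable def part (φ : B →* MulAut A) (H : Subgroup B) : Subgroup A := fixd φ H ⊓ (nrm φ).ker

section

variable {q : A → V} (hQ : Quad q) {p : ℕ} [hp : Fact p.Prime] (hp2 : p ≠ 2)
  (hexp : ∀ b : B, b ^ p = 1) (φ : B →* MulAut A) (hφq : ∀ b a, q (φ b a) = q a)

include hQ hp2 hexp in
theorem nrm_of_fixed {a : A} (ha : ∀ b, φ b a = a) : nrm φ a = a := by
  letI := Fintype.ofFinite B
  have hB : IsPGroup p B := fun b => ⟨1, by rw [pow_one]; exact hexp b⟩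
  obtain ⟨k, hk⟩ := hB.exists_card_eq
  rw [nrm_apply]
  simp only [ha, Finset.prod_const, Finset.card_univ, ← Nat.card_eq_fintype_card, hk]
  exact hQ.pow_odd (hp.out.odd_of_ne_two hp2).pow a

theorem eq_top_of_lt {H M : Subgroup B} (hH : H.index = p) {x : B} (hHM : H ≤ M) (hx : x ∈ M)
    (hxH : x ∉ H) : M = ⊤ := by
  have h := relIndex_mul_index hHM
  rw [hH] at h
  rcases hp.out.eq_one_or_self_of_dvd _ (Dvd.intro_left _ h) with h1 | h1
  · exact index_eq_one.mp h1
  · rw [h1] at h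
    exact absurd (relIndex_eq_one.mp ((Nat.mul_eq_right hp.out.ne_zero).mp h) hx) hxH

theorem exists_notMem {H : Subgroup B} (hH : H.index = p) : ∃ h : B, h ∉ H := by
  by_contra hc
  push_neg at hc
  rw [(eq_top_iff' H).mpr hc, index_top] at hH
  exact hp.out.one_lt.ne hH

include hQ hp2 hexp in
theorem eq_one_of_fixed {H : Subgroup B} {a : A} (ha : a ∈ part φ H) (hf : ∀ b, φ b a = a) : a = 1 := by
  rw [← nrm_of_fixed hQ hp2 hexp φ hf]; exact ha.2

include hQ hp2 hexp in
theorem eq_one_of_fix_one {H : Subgroup B} (hH : H.index = p) {h : B} (hh : h ∉ H) {a : A}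
    (ha : a ∈ part φ H) (hf : φ h a = a) : a = 1 :=
  eq_one_of_fixed hQ hp2 hexp φ ha fun b =>
    ((eq_top_of_lt hH (M := stab φ a) ha.1 hf hh).ge (mem_top b) : b ∈ stab φ a)

theorem apply_mem_part {H : Subgroup B} {a : A} (ha : a ∈ part φ H) (c : B) : φ c a ∈ part φ H :=
  ⟨fun h hh => by rw [apply_comm, ha.1 h hh], (nrm_apply_comm φ c a).trans ha.2⟩

theorem delta_mem_part {H : Subgroup B} {a : A} (ha : a ∈ part φ H) (c : B) : a * φ c a ∈ part φ H :=
  mul_mem ha (apply_mem_part φ ha c)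

include hQ hp2 hexp hφq in
theorem orth [Finite A] {H : Subgroup B} (hH : H.index = p) {h : B} (hh : h ∉ H) {a c : A}
    (ha : φ h a = a) (hc : c ∈ part φ H) : beta q a c = 1 := by
  let δ : part φ H → part φ H := fun x => ⟨x.1 * φ h x.1, delta_mem_part φ x.2 h⟩
  have hδ : Function.Injective δ := by
    intro x y hxy
    have e : x.1 * φ h x.1 = y.1 * φ h y.1 := congrArg Subtype.val hxy
    have h1 : φ h (x.1 * y.1) = x.1 * y.1 := by
      rw [map_mul]
      calc φ h x.1 * φ h y.1 = (x.1 * x.1) * (y.1 * y.1) * (φ h x.1 * φ h y.1) := by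
            rw [hQ.sqA, hQ.sqA, one_mul, one_mul]
        _ = x.1 * y.1 * ((x.1 * φ h x.1) * (y.1 * φ h y.1)) := by ac_rfl
        _ = _ := by rw [e, hQ.sqA, mul_one]
    have h2 := eq_one_of_fix_one hQ hp2 hexp φ hH hh (mul_mem x.2 y.2) h1
    exact Subtype.ext (by
      calc x.1 = x.1 * (y.1 * y.1) := by rw [hQ.sqA, mul_one]
        _ = y.1 := by rw [← mul_assoc, h2, one_mul])
  obtain ⟨c', hc'⟩ := Finite.surjective_of_injective hδ ⟨c, hc⟩
  have e : c'.1 * φ h c'.1 = c := congrArg Subtype.val hc'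
  rw [← e, hQ.beta_mul']
  conv_lhs => arg 2; rw [← ha, hQ.beta_apply (φ h) (hφq h)]
  exact hQ.sqV _

include hQ hp2 hexp in
/-- Independence of the parts. -/
theorem indep : ∀ (T : Finset (Subgroup B)) (f : Subgroup B → A),
    (∀ H ∈ T, H.index = p ∧ f H ∈ part φ H ∧ f H ≠ 1) → (∀ b, φ b (∏ H ∈ T, f H) = ∏ H ∈ T, f H) → T = ∅ := by
  classical
  intro T
  induction T using Finset.strongInduction with
  | H T ih =>
    intro f hf hfix
    by_contra hne
    obtain ⟨H₀, hH₀⟩ := Finset.nonempty_iff_ne_empty.mpr hne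
    by_cases hone : ∃ H₁ ∈ T, H₁ ≠ H₀
    · obtain ⟨H₁, hH₁, h10⟩ := hone
      obtain ⟨h, hh1, hh0⟩ : ∃ h, h ∈ H₁ ∧ h ∉ H₀ := by
        by_contra hc
        push_neg at hc
        refine h10 (le_antisymm hc ?_)
        by_contra hle
        obtain ⟨x, hx0, hx1⟩ := SetLike.not_le_iff_exists.mp hle
        have htop := eq_top_of_lt (p := p) (hf H₁ hH₁).1 (M := H₀) hc hx0 hx1
        have := (hf H₀ hH₀).1
        rw [htop, index_top] at this
        exact hp.out.one_lt.ne this
      set T' := T.filter (fun H => h ∉ H)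
      have hss : T' ⊂ T := Finset.filter_ssubset.mpr ⟨H₁, hH₁, fun hc => hc hh1⟩
      have hf' : ∀ H ∈ T', H.index = p ∧ f H * φ h (f H) ∈ part φ H ∧ f H * φ h (f H) ≠ 1 := by
        intro H hH
        obtain ⟨hHT, hhH⟩ := Finset.mem_filter.mp hH
        obtain ⟨hi, hm, hn⟩ := hf H hHT
        refine ⟨hi, delta_mem_part φ hm h, fun e => hn (eq_one_of_fix_one hQ hp2 hexp φ hi hhH hm ?_)⟩
        calc φ h (f H) = f H * (f H * φ h (f H)) := by rw [← mul_assoc, hQ.sqA, one_mul]
          _ = f H := by rw [e, mul_one]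
      have hprod : ∏ H ∈ T', f H * φ h (f H) = 1 := by
        rw [Finset.prod_filter_of_ne, Finset.prod_mul_distrib, ← map_prod, hfix, hQ.sqA]
        intro H hH hne' hhH
        exact hne' (by rw [(hf H hH).2.1.1 h hhH, hQ.sqA])
      have := ih T' hss _ hf' (fun b => by rw [hprod, map_one])
      exact Finset.notMem_empty H₀ (this ▸ Finset.mem_filter.mpr ⟨hH₀, hh0⟩)
    · push_neg at hone
      have hT : T = {H₀} := Finset.eq_singleton_iff_unique_mem.mpr ⟨hH₀, hone⟩
      rw [hT, Finset.prod_singleton] at hfix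
      exact (hf H₀ hH₀).2.2 (eq_one_of_fixed hQ hp2 hexp φ (hf H₀ hH₀).2.1 hfix)

include hQ hp2 hexp hφq in
theorem q_prod [Finite A] : ∀ (T : Finset (Subgroup B)) (f : Subgroup B → A),
    (∀ H ∈ T, H.index = p ∧ f H ∈ part φ H) → q (∏ H ∈ T, f H) = ∏ H ∈ T, q (f H) := by
  classical
  intro T f hf
  induction T using Finset.induction with
  | empty => simp [hQ.map_one]
  | insert H T hH ih =>
    suffices hb : ∀ K ∈ T, beta q (f H) (f K) = 1 by
      rw [Finset.prod_insert hH, Finset.prod_insert hH, hQ.map_mul,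
        ih fun K hK => hf K (Finset.mem_insert_of_mem hK), hQ.beta_prod, Finset.prod_eq_one hb, mul_one]
    intro K hK
    obtain ⟨hi, hm⟩ := hf H (Finset.mem_insert_self _ _)
    obtain ⟨hKi, hKm⟩ := hf K (Finset.mem_insert_of_mem hK)
    obtain ⟨h, hhH, hhK⟩ : ∃ h, h ∈ H ∧ h ∉ K := by
      by_contra hc
      push_neg at hc
      obtain ⟨x, hx, hxH⟩ : ∃ x ∈ K, x ∉ H := by
        by_contra hc'
        push_neg at hc'
        exact hH ((le_antisymm (show H ≤ K from hc) (show K ≤ H from hc')) ▸ hK)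
      have htop := eq_top_of_lt (p := p) hi (M := K) hc hx hxH
      rw [htop, index_top] at hKi
      exact hp.out.one_lt.ne hKi
    exact orth hQ hp2 hexp φ hφq hKi hhK (hm.1 h hhH) hKm

include hQ hp2 hexp in
/-- The parts and the fixed points generate. -/
theorem mem_parts [Finite A] (a : A) :
    a ∈ fixd φ ⊤ ⊔ ⨆ H : {H : Subgroup B // H.index = p}, part φ H.1 := by
  set S := fixd φ ⊤ ⊔ ⨆ H : {H : Subgroup B // H.index = p}, part φ H.1
  suffices ∀ (n : ℕ) (a : A), (stab φ a).index = n → a ∈ S from this _ a rfl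
  intro n
  induction n using Nat.strong_induction_on with
  | _ n ih =>
  intro a hn
  set D := stab φ a with hD
  by_cases hD1 : D = ⊤
  · exact mem_sup_left fun h _ => (hD1.ge (mem_top h) : h ∈ D)
  by_cases hDp : D.index = p
  · have hN : nrm φ a ∈ fixd φ ⊤ := fun h _ => apply_nrm φ h a
    have hW : a * nrm φ a ∈ part φ D := ⟨fun h hh => by rw [map_mul, apply_nrm, show φ h a = a from hh], by
      show nrm φ _ = 1
      rw [map_mul, nrm_of_fixed hQ hp2 hexp φ (fun b => apply_nrm φ b a), hQ.sqA]⟩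
    have h1 := mul_mem (mem_sup_right (mem_iSup_of_mem (⟨D, hDp⟩ : {H : Subgroup B // H.index = p}) hW) : _ ∈ S)
      (mem_sup_left hN)
    rwa [mul_assoc, hQ.sqA, mul_one] at h1
  obtain ⟨x, hx⟩ := (not_forall.mp (mt (eq_top_iff' D).mpr hD1))
  obtain ⟨y, hy⟩ : ∃ y, y ∉ D ⊔ zpowers x := by
    by_contra hc
    push_neg at hc
    refine hDp ?_
    have h1 : D.index = D.relIndex (zpowers x) := by
      rw [← relIndex_sup_right (K := D) (H := zpowers x), sup_comm, (eq_top_iff' _).mpr hc, relIndex_top_right]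
    have h2 : D.relIndex (zpowers x) ∣ p := (relIndex_dvd_card _ _).trans (by
      rw [Nat.card_zpowers]; exact orderOf_dvd_of_pow_eq_one (hexp x))
    rcases hp.out.eq_one_or_self_of_dvd _ h2 with h | h
    · exact absurd (index_eq_one.mp (h1.trans h)) hD1
    · exact h1.trans h
  have key : ∀ {K : Subgroup B} {z : B}, z ∉ K → ∀ j : ℤ, z ^ j ∈ K → z ^ j = 1 := by
    intro K z hz j hj
    by_cases hd : (p : ℤ) ∣ j
    · obtain ⟨k, rfl⟩ := hd
      rw [zpow_mul, zpow_natCast, hexp, one_zpow]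
    · exfalso
      obtain ⟨u, v, huv⟩ := ((Nat.prime_iff_prime_int.mp hp.out).coprime_iff_not_dvd.mpr hd)
      refine hz ?_
      rw [← zpow_one z, ← huv, zpow_add, mul_comm u, zpow_mul, zpow_natCast, hexp, one_zpow, one_mul,
        mul_comm v, zpow_mul]
      exact zpow_mem hj v
  set E₀ := closure ({x, y} : Set B) with hE₀
  set V₀ := fixd φ D
  have hinv : ∀ (b : B) (v : A), v ∈ V₀ → φ b v ∈ V₀ := fun b v hv h hh => by rw [apply_comm, hv h hh]
  let ρ : E₀ →* (V₀ ≃* V₀) :=
    { toFun := fun e =>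
        { toFun := fun v => ⟨φ e v, hinv e v v.2⟩
          invFun := fun v => ⟨φ (e : B)⁻¹ v, hinv _ v v.2⟩
          left_inv := fun v => Subtype.ext (by
            show φ (e : B)⁻¹ (φ (e : B) (v : A)) = v
            rw [← MulAut.mul_apply, ← map_mul φ, inv_mul_cancel, map_one, MulAut.one_apply])
          right_inv := fun v => Subtype.ext (by
            show φ (e : B) (φ (e : B)⁻¹ (v : A)) = v
            rw [← MulAut.mul_apply, ← map_mul φ, mul_inv_cancel, map_one, MulAut.one_apply])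
          map_mul' := fun v w => Subtype.ext (map_mul (φ (e : B)) (v : A) w) }
      map_one' := MulEquiv.ext fun v => Subtype.ext (by simp)
      map_mul' := fun e f => MulEquiv.ext fun v => Subtype.ext (by simp) }
  have h1 := Coprime.pow_mem_of_fixed_mem ρ (S.subgroupOf V₀) hp.out (x := ⟨x, subset_closure (by simp)⟩)
    (y := ⟨y, subset_closure (by simp)⟩) (Subtype.ext (mul_comm x y)) (Subtype.ext (hexp y)) (Subtype.ext (hexp x))
    (fun h => hy (by rw [show y = 1 from congrArg Subtype.val h]; exact one_mem _))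
    (fun j h => hy (by
      have h' : x * y ^ j = 1 := congrArg Subtype.val h
      have hj := key hy (j : ℤ) (by rw [zpow_natCast, eq_inv_of_mul_eq_one_right h']; exact inv_mem (mem_sup_right (mem_zpowers x)))
      rw [zpow_natCast] at hj
      rw [hj, mul_one] at h'
      exact absurd (h' ▸ one_mem D) hx))
    (fun e v he hv => by
      show (v : A) ∈ S
      have hle : D ≤ stab φ v := fun h hh => v.2 h hh
      have hev : (e : B) ∈ stab φ v := congrArg Subtype.val hv
      have heD : (e : B) ∉ D := by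
        intro heD
        obtain ⟨i, j, hij⟩ := mem_closure_pair.mp e.2
        have hj : y ^ j = 1 := key hy j (by
          rw [show y ^ j = (x ^ i)⁻¹ * e by rw [← hij]; group]
          exact mul_mem (inv_mem (zpow_mem (mem_sup_right (mem_zpowers x)) i)) (mem_sup_left heD))
        rw [hj, mul_one] at hij
        refine he (Subtype.ext ?_)
        rw [← hij]
        exact key hx i (hij ▸ heD)
      refine ih _ ?_ v rfl
      rw [← hn, ← relIndex_mul_index hle]
      refine lt_mul_of_one_lt_left (Nat.pos_of_ne_zero index_ne_zero_of_finite) ?_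
      have h0 : D.relIndex (stab φ v) ≠ 1 := fun h => heD (relIndex_eq_one.mp h hev)
      have h0' : D.relIndex (stab φ v) ≠ 0 := (D.subgroupOf (stab φ v)).index_ne_zero_of_finite
      omega) ⟨a, fun h hh => hh⟩
  have h2 : a ^ p ∈ S := h1
  rwa [hQ.pow_odd (hp.out.odd_of_ne_two hp2)] at h2

include hQ hp2 hexp hφq in
theorem card_le_two [Finite A] [Finite V] {E : Type*} [Group E] [Finite E] (hφ : Function.Injective φ)
    (σ : E →* MulAut B) (hσ : Function.Injective σ) (hσ2 : ∀ e b, σ e (σ e b) = b)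
    (hψ : ∀ e, ∃ ψ : MulAut A, (∀ a, q (ψ a) = q a) ∧ ∀ b a, ψ (φ b a) = φ (σ e b) (ψ a))
    (hcard : Nat.card V ≤ Nat.card E)
    (hfib : ∀ v w : V, v ≠ 1 → w ≠ 1 → Nat.card {a // q a = v} = Nat.card {a // q a = w}) :
    Nat.card V ≤ 2 := by
  classical
  letI : Fintype (Subgroup B) := Fintype.ofFinite _
  set K := Finset.univ.filter (fun H : Subgroup B => H.index = p ∧ ∃ a ∈ part φ H, a ≠ 1) with hK
  have hmemK : ∀ {H}, H ∈ K ↔ H.index = p ∧ ∃ a ∈ part φ H, a ≠ 1 := fun {H} => by simp [hK]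
  choose! y hy hy1 using fun H (hH : H ∈ K) => (hmemK.mp hH).2
  have hdec : ∀ a : A, ∃ (c : A) (f : Subgroup B → A), (∀ b, φ b c = c) ∧ (∀ H ∈ K, f H ∈ part φ H) ∧ a = c * ∏ H ∈ K, f H := by
    intro a
    let M : Subgroup A :=
      { carrier := {a | ∃ (c : A) (f : Subgroup B → A), (∀ b, φ b c = c) ∧ (∀ H ∈ K, f H ∈ part φ H) ∧ a = c * ∏ H ∈ K, f H}
        one_mem' := ⟨1, fun _ => 1, fun b => map_one (φ b), fun H _ => one_mem _, by simp⟩
        mul_mem' := by
          rintro _ _ ⟨c, f, hc, hf, rfl⟩ ⟨d, g, hd, hg, rfl⟩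
          exact ⟨c * d, fun H => f H * g H, fun b => by rw [map_mul, hc, hd],
            fun H hH => mul_mem (hf H hH) (hg H hH), by rw [Finset.prod_mul_distrib]; ac_rfl⟩
        inv_mem' := fun {a} ha => by rwa [inv_eq_of_mul_eq_one_right (hQ.sqA a)] }
    suffices h : fixd φ ⊤ ⊔ (⨆ H : {H : Subgroup B // H.index = p}, part φ H.1) ≤ M from
      h (mem_parts hQ hp2 hexp φ a)
    refine sup_le (fun c hc => ⟨c, fun _ => 1, fun b => hc b (mem_top b), fun H _ => one_mem _, by simp⟩) ?_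
    refine iSup_le fun H x hx => ?_
    by_cases hx1 : x = 1
    · exact hx1 ▸ M.one_mem
    have hHK : H.1 ∈ K := hmemK.mpr ⟨H.2, x, hx, hx1⟩
    refine ⟨1, fun L => if L = H.1 then x else 1, fun b => map_one (φ b), fun L hL => ?_, ?_⟩
    · dsimp only
      split_ifs with h
      · exact h ▸ hx
      · exact one_mem _
    · rw [Finset.prod_ite_eq' K H.1 (fun _ => x), if_pos hHK, one_mul]
  have hq1 : ∀ (T : Finset (Subgroup B)) (f : Subgroup B → A), T ⊆ K →
      (∀ H ∈ T, f H ∈ part φ H ∧ f H ≠ 1) → ∏ H ∈ T, q (f H) = 1 → T = ∅ := by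
    intro T f hT hf h1
    rw [← q_prod hQ hp2 hexp φ hφq T f fun H hH => ⟨(hmemK.mp (hT hH)).1, (hf H hH).1⟩] at h1
    exact indep hQ hp2 hexp φ T f (fun H hH => ⟨(hmemK.mp (hT hH)).1, hf H hH⟩)
      (fun b => by rw [hQ.aniso _ h1, map_one])
  -- the values
  let Φ : {T // T ∈ K.powerset} → V := fun T => ∏ H ∈ T.1, q (y H)
  have hsd : ∀ S T : Finset (Subgroup B), (∏ H ∈ S, q (y H)) * (∏ H ∈ T, q (y H)) =
      ∏ H ∈ symmDiff S T, q (y H) := by
    intro S T
    rw [← Finset.prod_sdiff (Finset.inter_subset_left : S ∩ T ⊆ S), ← Finset.prod_sdiff (Finset.inter_subset_right : S ∩ T ⊆ T),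
      symmDiff_def, Finset.sup_eq_union, Finset.prod_union disjoint_sdiff_sdiff, Finset.sdiff_inter_self_left,
      Finset.sdiff_inter_self_right]
    rw [mul_mul_mul_comm, hQ.sqV, mul_one]
  have hΦ : Function.Injective Φ := by
    rintro ⟨S, hS⟩ ⟨T, hT⟩ h
    rw [Finset.mem_powerset] at hS hT
    have h' : (∏ H ∈ S, q (y H)) * (∏ H ∈ T, q (y H)) = 1 := by
      rw [show ∏ H ∈ S, q (y H) = ∏ H ∈ T, q (y H) from h, hQ.sqV]
    rw [hsd] at h'
    have hsub : symmDiff S T ⊆ K := fun H hH => by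
      rcases Finset.mem_symmDiff.mp hH with h | h
      · exact hS h.1
      · exact hT h.1
    exact Subtype.ext (symmDiff_eq_bot.mp (hq1 _ y hsub (fun H hH => ⟨hy H (hsub hH), hy1 H (hsub hH)⟩) h'))
  -- the involutions fix every part
  have hfixH : ∀ e, ∀ H ∈ K, ∀ h ∈ H, σ e h ∈ H := by
    intro e H hH h hh
    obtain ⟨ψ, hψq, hψc⟩ := hψ e
    set H' := H.map (σ e).toMonoidHom with hH'
    obtain ⟨hHi, -⟩ := hmemK.mp hH
    have hH'i : H'.index = p := by
      rw [hH', index_map_of_bijective (σ e).bijective]; exact hHi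
    have hm : ψ (y H) ∈ part φ H' := by
      refine ⟨?_, ?_⟩
      · rintro _ ⟨k, hk, rfl⟩
        show φ (σ e k) (ψ (y H)) = _
        rw [← hψc, (hy H hH).1 k hk]
      · show nrm φ (ψ (y H)) = 1
        letI := Fintype.ofFinite B
        rw [nrm_apply, show (∏ b : B, φ b (ψ (y H))) = ψ (∏ b : B, φ b (y H)) from ?_, ← nrm_apply,
          MonoidHom.mem_ker.mp (hy H hH).2, map_one]
        rw [map_prod]
        exact (Fintype.prod_equiv (σ e).toEquiv _ _ fun b => hψc b (y H)).symm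
    have hm1 : ψ (y H) ≠ 1 := fun h1 => hy1 H hH (ψ.injective (h1.trans (map_one ψ).symm))
    have hH'K : H' ∈ K := hmemK.mpr ⟨hH'i, _, hm, hm1⟩
    by_cases hne : H' = H
    · exact hne ▸ mem_map_of_mem _ hh
    exfalso
    have := hq1 {H, H'} (fun L => if L = H then y H else ψ (y H)) (by
        intro L hL
        rcases Finset.mem_insert.mp hL with rfl | hL
        · exact hH
        · rw [Finset.mem_singleton.mp hL]; exact hH'K)
      (by
        intro L hL
        split_ifs with h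
        · subst h; exact ⟨hy _ hH, hy1 _ hH⟩
        · obtain rfl := (Finset.mem_insert.mp hL).resolve_left h |> Finset.mem_singleton.mp
          exact ⟨hm, hm1⟩)
      (by rw [Finset.prod_pair (Ne.symm hne), if_pos rfl, if_neg hne, hψq, hQ.sqV])
    exact Finset.notMem_empty H (this ▸ Finset.mem_insert_self H _)
  let sgn : E → {H // H ∈ K} → Prop := fun e H => ∀ b, σ e b * b⁻¹ ∈ H.1
  have hneg : ∀ e (H : {H // H ∈ K}), ¬ sgn e H → ∀ b, σ e b * b ∈ H.1 := by
    intro e H hne b
    by_contra hu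
    refine hne fun c => ?_
    let M : Subgroup B := H.1.comap ((σ e).toMonoidHom * (MonoidHom.id B)⁻¹)
    have hM : ∀ x, x ∈ M ↔ σ e x * x⁻¹ ∈ H.1 := fun x => Iff.rfl
    have htop := eq_top_of_lt (p := p) (hmemK.mp H.2).1 (M := M)
      (fun h hh => (hM h).mpr (mul_mem (hfixH e H.1 H.2 h hh) (inv_mem hh)))
      ((hM (σ e b * b)).mpr (by rw [map_mul, hσ2, mul_comm b, mul_inv_cancel]; exact one_mem _)) hu
    exact (hM c).mp (htop.ge (mem_top c))
  have hinj : Function.Injective sgn := by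
    intro e₁ e₂ he
    have hfix : ∀ b, σ (e₁ * e₂) b = b := by
      intro b
      set x := σ (e₁ * e₂) b * b⁻¹ with hx
      have hxH : ∀ H ∈ K, x ∈ H := by
        intro H hH
        have hs : sgn e₁ ⟨H, hH⟩ = sgn e₂ ⟨H, hH⟩ := congrFun he _
        rw [hx, map_mul, MulAut.mul_apply]
        by_cases h1 : sgn e₁ ⟨H, hH⟩
        · have h2 : sgn e₂ ⟨H, hH⟩ := hs ▸ h1
          have := H.mul_mem (h1 (σ e₂ b)) (h2 b)
          rwa [mul_assoc, inv_mul_cancel_left] at this
        · have h2 : ¬ sgn e₂ ⟨H, hH⟩ := hs ▸ h1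
          have := H.mul_mem (hneg _ _ h1 (σ e₂ b)) (H.inv_mem (hneg _ _ h2 b))
          rwa [mul_inv_rev, mul_comm b⁻¹ (σ e₂ b)⁻¹, mul_assoc, mul_inv_cancel_left] at this
      have : x = 1 := hφ (MulEquiv.ext fun a => by
        obtain ⟨c, f, hc, hf, rfl⟩ := hdec a
        rw [map_one, MulAut.one_apply, map_mul, map_prod, hc]
        congr 1
        exact Finset.prod_congr rfl fun H hH => (hf H hH).1 x (hxH H hH))
      exact mul_inv_eq_one.mp this
    have h12 : e₁ * e₂ = 1 := hσ (by rw [map_one]; exact MulEquiv.ext fun b => (hfix b).trans rfl)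
    have h22 : e₂ * e₂ = 1 := hσ (by
      rw [map_one, map_mul]; exact MulEquiv.ext fun b => (hσ2 e₂ b).trans rfl)
    exact mul_right_cancel (h12.trans h22.symm)
  have hbij : Function.Bijective Φ := by
    refine (Nat.bijective_iff_injective_and_card Φ).mpr ⟨hΦ, le_antisymm (Nat.card_le_card_of_injective Φ hΦ) ?_⟩
    refine hcard.trans ((Nat.card_le_card_of_injective sgn hinj).trans (le_of_eq ?_))
    rw [Nat.card_fun, Nat.card_eq_fintype_card, Nat.card_eq_fintype_card, Nat.card_eq_fintype_card,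
      Fintype.card_prop, Fintype.card_coe, Fintype.card_coe, Finset.card_powerset]
  obtain ⟨Φ', hΦ'⟩ := hbij.2.hasRightInverse
  have hT : ∀ v, ∏ H ∈ (Φ' v).1, q (y H) = v := hΦ'
  have hTK : ∀ v, (Φ' v).1 ⊆ K := fun v => Finset.mem_powerset.mp (Φ' v).2
  have hTeq : ∀ v S, S ⊆ K → ∏ H ∈ S, q (y H) = v → (Φ' v).1 = S := by
    intro v S hS h
    have := hΦ (show Φ (Φ' v) = Φ ⟨S, Finset.mem_powerset.mpr hS⟩ from (hΦ' v).trans h.symm)
    exact congrArg Subtype.val this
  -- no fixed points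
  have hC : ∀ c, (∀ b, φ b c = c) → c = 1 := by
    intro c hc
    set T := (Φ' (q c)).1
    have hTi : ∀ H ∈ T, H.index = p ∧ y H ∈ part φ H ∧ y H ≠ 1 := fun H hH =>
      ⟨(hmemK.mp (hTK _ hH)).1, hy H (hTK _ hH), hy1 H (hTK _ hH)⟩
    have hb : beta q c (∏ H ∈ T, y H) = 1 := by
      rw [hQ.beta_prod]
      refine Finset.prod_eq_one fun H hH => ?_
      obtain ⟨h, hh⟩ := exists_notMem (hTi H hH).1
      exact orth hQ hp2 hexp φ hφq (hTi H hH).1 hh (hc h) (hTi H hH).2.1
    have h0 := hQ.aniso (c * ∏ H ∈ T, y H) (by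
      rw [hQ.map_mul, hb, mul_one, q_prod hQ hp2 hexp φ hφq T y fun H hH => ⟨(hTi H hH).1, (hTi H hH).2.1⟩,
        hT, hQ.sqV])
    have hcP : c = ∏ H ∈ T, y H := by
      calc c = c * ((∏ H ∈ T, y H) * ∏ H ∈ T, y H) := by rw [hQ.sqA, mul_one]
        _ = _ := by rw [← mul_assoc, h0, one_mul]
    rw [hcP, indep hQ hp2 hexp φ T y hTi (hcP ▸ hc), Finset.prod_empty]
  -- each part has at most three nontrivial elements, of one value
  have hmemT : ∀ H ∈ K, ∀ a ∈ part φ H, a ≠ 1 → H ∈ (Φ' (q a)).1 := by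
    intro H hH a ha ha1
    by_contra hn
    have := hq1 (insert H (Φ' (q a)).1) (Function.update y H a) (Finset.insert_subset hH (hTK _)) (by
        intro L hL
        rcases Finset.mem_insert.mp hL with rfl | hL
        · rw [Function.update_self]; exact ⟨ha, ha1⟩
        · rw [Function.update_of_ne (fun e : L = H => hn (e ▸ hL))]; exact ⟨hy L (hTK _ hL), hy1 L (hTK _ hL)⟩)
      (by
        have hupd : ∏ L ∈ (Φ' (q a)).1, q (Function.update y H a L) = ∏ L ∈ (Φ' (q a)).1, q (y L) :=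
          Finset.prod_congr rfl fun L hL => by rw [Function.update_of_ne (fun e : L = H => hn (e ▸ hL))]
        rw [Finset.prod_insert hn, Function.update_self, hupd, hT, hQ.sqV])
    exact Finset.notMem_empty H (this ▸ Finset.mem_insert_self H _)
  have hTmul : ∀ v w, (Φ' (v * w)).1 = symmDiff (Φ' v).1 (Φ' w).1 := fun v w => hTeq _ _
    (fun H hH => by
      rcases Finset.mem_symmDiff.mp hH with h | h
      · exact hTK _ h.1
      · exact hTK _ h.1)
    (by rw [← hsd, hT, hT])
  have hsmall : ∀ H ∈ K, ∀ a ∈ part φ H, ∀ b ∈ part φ H, a ≠ 1 → b ≠ 1 → a ≠ b →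
      ∀ c ∈ part φ H, c ≠ 1 → c = a ∨ c = b ∨ c = a * b := by
    intro H hH a ha b hb ha1 hb1 hab c hc hc1
    by_contra hcon
    push_neg at hcon
    obtain ⟨hca, hcb, hcab⟩ := hcon
    have hne : ∀ u w : A, u * w = 1 → u = w := fun u w e => by
      calc u = u * (w * w) := by rw [hQ.sqA, mul_one]
        _ = w := by rw [← mul_assoc, e, one_mul]
    have hβ : ∀ u ∈ part φ H, ∀ w ∈ part φ H, u ≠ 1 → w ≠ 1 → u * w ≠ 1 → H ∈ (Φ' (beta q u w)).1 := by
      intro u hu w hw hu1 hw1 huw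
      rw [beta, hTmul, hTmul]
      have i1 := hmemT H hH _ (mul_mem hu hw) huw
      have i2 := hmemT H hH u hu hu1
      have i3 := hmemT H hH w hw hw1
      simp only [Finset.mem_symmDiff]
      tauto
    have h3 := hβ (a * c) (mul_mem ha hc) b hb (fun e => hca (hne _ _ e).symm) hb1
      (fun e => hcab (by
        calc c = a * a * c := by rw [hQ.sqA, one_mul]
          _ = a * b := by rw [mul_assoc, hne _ _ e]))
    rw [hQ.beta_mul, hTmul, Finset.mem_symmDiff] at h3
    have i1 := hβ a ha b hb ha1 hb1 fun e => hab (hne _ _ e)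
    have i2 := hβ c hc b hb hc1 hb1 fun e => hcb (hne _ _ e)
    tauto
  have htwo : ∀ H ∈ K, ∃ b ∈ part φ H, b ≠ 1 ∧ b ≠ y H ∧ q b = q (y H) ∧
      ∀ c ∈ part φ H, c ≠ 1 → q c = q (y H) := by
    intro H hH
    obtain ⟨hHi, -⟩ := hmemK.mp hH
    obtain ⟨h, hh⟩ := exists_notMem hHi
    set a := y H
    set b := φ h a
    have hb := apply_mem_part φ (hy H hH) h
    have hb1 : b ≠ 1 := fun e => hy1 H hH ((φ h).injective (e.trans (map_one (φ h)).symm))
    have hab : b ≠ a := fun e => hy1 H hH (eq_one_of_fix_one hQ hp2 hexp φ hHi hh (hy H hH) e)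
    set d := φ h b
    have hd := apply_mem_part φ hb h
    have hd1 : d ≠ 1 := fun e => hb1 ((φ h).injective (e.trans (map_one (φ h)).symm))
    have hdb : d ≠ b := fun e => hab ((φ h).injective e)
    have hda : d ≠ a := fun e => by
      refine hab ?_
      have h2 : h * h ∈ stab φ a := by
        show φ (h * h) a = a
        rw [map_mul, MulAut.mul_apply]; exact e
      obtain ⟨k, hk⟩ := hp.out.odd_of_ne_two hp2
      have h1 : h⁻¹ = (h * h) ^ k := by
        rw [← pow_two, ← pow_mul]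
        exact inv_eq_of_mul_eq_one_right (by rw [← pow_succ', ← hk, hexp])
      have := inv_mem (h1 ▸ pow_mem h2 k : h⁻¹ ∈ stab φ a)
      rwa [inv_inv] at this
    refine ⟨b, hb, hb1, hab, hφq h a, fun c hc hc1 => ?_⟩
    have hdab : d = a * b :=
      ((hsmall H hH a (hy H hH) b hb (hy1 H hH) hb1 (Ne.symm hab) d hd hd1).resolve_left hda).resolve_left hdb
    rcases hsmall H hH a (hy H hH) b hb (hy1 H hH) hb1 (Ne.symm hab) c hc hc1 with rfl | rfl | rfl
    · rfl
    · exact hφq h a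
    · rw [← hdab]; exact (hφq h b).trans (hφq h a)
  -- two parts give fibres of different sizes
  by_contra hV
  push_neg at hV
  have hK2 : 1 < K.card := by
    by_contra hK1
    have := Nat.card_le_card_of_surjective Φ hbij.2
    rw [Nat.card_eq_fintype_card (α := {T // T ∈ K.powerset}), Fintype.card_coe, Finset.card_powerset] at this
    have h2 : 2 ^ K.card ≤ 2 ^ 1 := Nat.pow_le_pow_right two_pos (not_lt.mp hK1)
    omega
  obtain ⟨H₁, hH₁, H₂, hH₂, h12⟩ := Finset.one_lt_card.mp hK2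
  obtain ⟨b₁, hb₁, hb₁1, hb₁a, hb₁q, hH₁q⟩ := htwo H₁ hH₁
  obtain ⟨b₂, hb₂, hb₂1, hb₂a, hb₂q, -⟩ := htwo H₂ hH₂
  have hfirst : ∀ a, q a = q (y H₁) → a = y H₁ ∨ a = b₁ ∨ a = y H₁ * b₁ := by
    intro a ha
    obtain ⟨c, f, hc, hf, rfl⟩ := hdec a
    rw [hC c hc, one_mul] at ha ⊢
    set T := K.filter (fun H => f H ≠ 1) with hT'
    have hTf : ∏ H ∈ T, f H = ∏ H ∈ K, f H := Finset.prod_filter_ne_one K
    rw [← hTf] at ha ⊢
    have hqT : ∏ H ∈ T, q (y H) = q (y H₁) := by
      rw [← ha, q_prod hQ hp2 hexp φ hφq T f fun H hH =>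
        ⟨(hmemK.mp (Finset.mem_filter.mp hH).1).1, hf H (Finset.mem_filter.mp hH).1⟩]
      refine Finset.prod_congr rfl fun H hH => ?_
      obtain ⟨hHK, hH1⟩ := Finset.mem_filter.mp hH
      obtain ⟨-, -, -, -, -, hq⟩ := htwo H hHK
      exact (hq _ (hf H hHK) hH1).symm
    have hTeq' : T = {H₁} := (hTeq _ T (Finset.filter_subset _ _) hqT).symm.trans
      (hTeq _ {H₁} (Finset.singleton_subset_iff.mpr hH₁) (Finset.prod_singleton _ _))
    rw [hTeq', Finset.prod_singleton]
    have hm : H₁ ∈ T := hTeq' ▸ Finset.mem_singleton_self _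
    exact hsmall H₁ hH₁ _ (hy H₁ hH₁) b₁ hb₁ (hy1 H₁ hH₁) hb₁1 (Ne.symm hb₁a) _
      (hf H₁ hH₁) (Finset.mem_filter.mp hm).2
  obtain ⟨h, hh1, hh2⟩ : ∃ h, h ∈ H₁ ∧ h ∉ H₂ := by
    by_contra hc
    push_neg at hc
    obtain ⟨x, hx, hxH⟩ : ∃ x ∈ H₂, x ∉ H₁ := by
      by_contra hc'
      push_neg at hc'
      exact h12 (le_antisymm hc hc')
    have htop := eq_top_of_lt (p := p) (hmemK.mp hH₁).1 (M := H₂) hc hx hxH
    have := (hmemK.mp hH₂).1
    rw [htop, index_top] at this
    exact hp.out.one_lt.ne this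
  have hqq : ∀ a ∈ part φ H₁, ∀ c ∈ part φ H₂, q (a * c) = q a * q c := fun a ha c hc => by
    rw [hQ.map_mul, orth hQ hp2 hexp φ hφq (hmemK.mp hH₂).1 hh2 (ha.1 h hh1) hc, mul_one]
  set w := q (y H₁) * q (y H₂)
  have hw : w ≠ 1 := fun e => by
    have := hq1 {H₁, H₂} y (by simp [Finset.insert_subset_iff, hH₁, hH₂])
      (fun H hH => by
        rcases Finset.mem_insert.mp hH with rfl | hH
        · exact ⟨hy H hH₁, hy1 H hH₁⟩
        · rw [Finset.mem_singleton.mp hH]; exact ⟨hy H₂ hH₂, hy1 H₂ hH₂⟩)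
      (by rwa [Finset.prod_pair h12])
    exact Finset.notMem_empty H₁ (this ▸ Finset.mem_insert_self H₁ _)
  have hv : q (y H₁) ≠ 1 := fun e => hy1 H₁ hH₁ (hQ.aniso _ e)
  have h3 : Nat.card {a // q a = q (y H₁)} ≤ 3 := by
    calc Nat.card {a // q a = q (y H₁)} ≤ Nat.card ↥({y H₁, b₁, y H₁ * b₁} : Finset A) :=
          Nat.card_le_card_of_injective (fun a => ⟨a.1, by
            simp only [Finset.mem_insert, Finset.mem_singleton]; exact hfirst a.1 a.2⟩)
            fun a c e => Subtype.ext (congrArg (fun x : ↥({y H₁, b₁, y H₁ * b₁} : Finset A) => x.1) e)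
      _ ≤ 3 := by rw [Nat.card_eq_finsetCard]; exact Finset.card_le_three
  let s₁ : Bool → A := fun i => if i then b₁ else y H₁
  let s₂ : Bool → A := fun i => if i then b₂ else y H₂
  have hs₁ : ∀ i, s₁ i ∈ part φ H₁ ∧ q (s₁ i) = q (y H₁) := fun i => by
    cases i
    · exact ⟨hy H₁ hH₁, rfl⟩
    · exact ⟨hb₁, hb₁q⟩
  have hs₂ : ∀ i, s₂ i ∈ part φ H₂ ∧ q (s₂ i) = q (y H₂) := fun i => by
    cases i
    · exact ⟨hy H₂ hH₂, rfl⟩
    · exact ⟨hb₂, hb₂q⟩
  have h4 : 4 ≤ Nat.card {a // q a = w} := by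
    let g : Bool × Bool → {a // q a = w} := fun x => ⟨s₁ x.1 * s₂ x.2, by
      rw [hqq _ (hs₁ x.1).1 _ (hs₂ x.2).1, (hs₁ x.1).2, (hs₂ x.2).2]⟩
    have hg : Function.Injective g := by
      rintro ⟨i, j⟩ ⟨i', j'⟩ e
      have e' : s₁ i * s₂ j = s₁ i' * s₂ j' := congrArg Subtype.val e
      have e2 : s₂ j * s₂ j' = s₁ i * s₁ i' := by
        calc s₂ j * s₂ j' = s₁ i * s₁ i * (s₂ j * s₂ j') := by rw [hQ.sqA, one_mul]
          _ = s₁ i * (s₁ i * s₂ j) * s₂ j' := by ac_rfl
          _ = s₁ i * s₁ i' * (s₂ j' * s₂ j') := by rw [e']; ac_rfl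
          _ = _ := by rw [hQ.sqA, mul_one]
      have e1 : s₁ i * s₁ i' = 1 := eq_one_of_fix_one hQ hp2 hexp φ (hmemK.mp hH₂).1 hh2
        (e2 ▸ mul_mem (hs₂ j).1 (hs₂ j').1) ((mul_mem (hs₁ i).1 (hs₁ i').1).1 h hh1)
      rw [e1] at e2
      have heq : ∀ u w : A, u * w = 1 → u = w := fun u w e => by
        calc u = u * (w * w) := by rw [hQ.sqA, mul_one]
          _ = w := by rw [← mul_assoc, e, one_mul]
      have i1 := heq _ _ e1
      have i2 := heq _ _ e2
      refine Prod.ext ?_ ?_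
      · cases i <;> cases i' <;> first | rfl | exact absurd i1 (Ne.symm hb₁a) | exact absurd i1 hb₁a
      · cases j <;> cases j' <;> first | rfl | exact absurd i2 (Ne.symm hb₂a) | exact absurd i2 hb₂a
    have := Nat.card_le_card_of_injective g hg
    simpa [Nat.card_eq_fintype_card] using this
  have := hfib _ _ hv hw
  omega

end

end Cfsg.Agent.GenA.OneClass
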