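import Cfsg.Agent.GStructB.FixTwo
import Cfsg.Agent.Techniques.Critical
import Cfsg.Agent.Lib.Coprime.OmegaDetect

/-!
In a finite 2-group all of whose involutions are central the elements of a critical subgroup whose squares
are involutions or trivial form a subgroup detecting all automorphisms of odd order.
-/

set_option autoImplicit false

namespace Cfsg.Agent.GenA.OneClass

open Subgroup
open scoped commutatorElement

theorem exists_squares_subgroup {G : Type*} [Group G] [Finite G] {Q V : Subgroup G} (hQ : IsPGroup 2 Q)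
    (hVQ : V ≤ Q) (hVc : ∀ v ∈ V, ∀ x ∈ Q, v * x = x * v) (hV : ∀ x ∈ Q, x * x = 1 ↔ x ∈ V) :
    ∃ L : Subgroup G, V ≤ L ∧ L ≤ Q ∧
      (∀ g ∈ normalizer (Q : Set G), ∀ x ∈ L, g * x * g⁻¹ ∈ L) ∧
      (∀ x ∈ L, x * x ∈ V) ∧ (∀ x ∈ L, ∀ y ∈ L, x⁻¹ * y * x * y⁻¹ ∈ V) ∧
      (∀ a ∈ normalizer (Q : Set G), Odd (orderOf a) → (∀ x ∈ L, a * x = x * a) → ∀ x ∈ Q, a * x = x * a) ∧
      (V < Q → V < L) := by
  haveI : Fact (Nat.Prime 2) := ⟨Nat.prime_two⟩
  obtain ⟨H, hHc, hΦ, hcom, hself⟩ := Techniques.Critical.exists_critical hQ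
  haveI := hHc
  set C := centralizer (H : Set Q) with hC
  have hcomm : ∀ a b : H, ∀ d : H, Commute ((a⁻¹ * b * a * b⁻¹ : H) : Q) (d : Q) := fun a b d => by
    have h : ⁅((a⁻¹ : H) : Q), (b : Q)⁆ ∈ H ⊓ C :=
      hcom (commutator_mem_commutator (a⁻¹).2 (mem_top _))
    have h' := mem_centralizer_iff.mp h.2 (d : Q) d.2
    rw [commutatorElement_def] at h'
    simpa [Commute, SemiconjBy] using h'.symm
  have hsq : ∀ a d : H, Commute (((a * a : H) : Q)) (d : Q) := fun a d => by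
    have h : ((a ^ 2 : H) : Q) ∈ C := hΦ ⟨a ^ 2, GStructB.FixTwo.pow_mem_frattini (hQ.to_subgroup H) a, rfl⟩
    rw [← pow_two]
    exact (mem_centralizer_iff.mp h (d : Q) d.2).symm
  have hc2 : ∀ a b : H, (a⁻¹ * b * a * b⁻¹) * (a⁻¹ * b * a * b⁻¹) = 1 := fun a b => by
    have hc : ∀ d : H, (a⁻¹ * b * a * b⁻¹) * d = d * (a⁻¹ * b * a * b⁻¹) := fun d => Subtype.ext (hcomm a b d).eq
    have ha2 : ∀ d : H, a * a * d = d * (a * a) := fun d => Subtype.ext (hsq a d).eq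
    have e : (a * a)⁻¹ * b * (a * a) * b⁻¹ = 1 := by
      rw [mul_assoc _ b, ← ha2 b, ← mul_assoc, inv_mul_cancel, one_mul, mul_inv_cancel]
    calc (a⁻¹ * b * a * b⁻¹) * (a⁻¹ * b * a * b⁻¹) = a⁻¹ * ((a⁻¹ * b * a * b⁻¹) * b * a * b⁻¹) := by
          rw [hc (a⁻¹ * b * a * b⁻¹)]
          calc (a⁻¹ * b * a * b⁻¹) * (a⁻¹ * b * a * b⁻¹)
              = ((a⁻¹ * b * a * b⁻¹) * a⁻¹) * (b * a * b⁻¹) := by group
            _ = (a⁻¹ * (a⁻¹ * b * a * b⁻¹)) * (b * a * b⁻¹) := by rw [hc a⁻¹]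
            _ = _ := by group
      _ = (a * a)⁻¹ * b * (a * a) * b⁻¹ := by group
      _ = 1 := e
  have hpow4 : ∀ a b : H, a * a * (a * a) = 1 → b * b * (b * b) = 1 → a * b * (a * b) * (a * b * (a * b)) = 1 := by
    intro a b ha hb
    set c := a⁻¹ * b * a * b⁻¹
    have hc : ∀ d : H, c * d = d * c := fun d => Subtype.ext (hcomm a b d).eq
    have hb2 : ∀ d : H, b * b * d = d * (b * b) := fun d => Subtype.ext (hsq b d).eq
    have e : a * b * (a * b) = a * a * (b * b) * c := by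
      calc a * b * (a * b) = a * a * (c * (b * b)) := by simp only [c]; group
        _ = _ := by rw [hc]; group
    rw [e]
    calc a * a * (b * b) * c * (a * a * (b * b) * c)
        = a * a * (b * b) * (c * (a * a * (b * b))) * c := by group
      _ = a * a * ((b * b) * (a * a)) * (b * b) * (c * c) := by rw [hc]; group
      _ = (a * a * (a * a)) * ((b * b) * (b * b)) * (c * c) := by rw [hb2 (a * a)]; group
      _ = 1 := by rw [ha, hb, hc2, one_mul, one_mul]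
  let L₀ : Subgroup H :=
    { carrier := {a | a * a * (a * a) = 1}
      one_mem' := by simp
      mul_mem' := fun {a b} ha hb => hpow4 a b ha hb
      inv_mem' := fun {a} ha => by
        show a⁻¹ * a⁻¹ * (a⁻¹ * a⁻¹) = 1
        rw [← mul_inv_rev, ← mul_inv_rev, show a * a * (a * a) = 1 from ha, inv_one] }
  set L := (L₀.map H.subtype).map Q.subtype with hL
  have hmemL : ∀ {x : G}, x ∈ L ↔ ∃ h : x ∈ Q, (⟨x, h⟩ : Q) ∈ H ∧ x * x * (x * x) = 1 := by
    intro x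
    constructor
    · rintro ⟨⟨y, hy⟩, ⟨⟨⟨z, hz⟩, hzH⟩, hz4, hzy⟩, rfl⟩
      obtain rfl : z = y := congrArg Subtype.val hzy
      exact ⟨hz, hzH, congrArg (fun t : H => ((t : Q) : G)) hz4⟩
    · rintro ⟨hx, hxH, h4⟩
      exact ⟨⟨x, hx⟩, ⟨⟨⟨x, hx⟩, hxH⟩, Subtype.ext (Subtype.ext h4), rfl⟩, rfl⟩
  have hinv : ∀ g ∈ normalizer (Q : Set G), ∀ y : Q, y ∈ H → ∀ h : g * (y : G) * g⁻¹ ∈ Q, (⟨_, h⟩ : Q) ∈ H := by
    intro g hg y hy h
    have := (characteristic_iff_map_eq.mp hHc (Q.normalizerMonoidHom ⟨g, hg⟩)).le ⟨y, hy, rfl⟩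
    exact (show (⟨_, h⟩ : Q) = (Q.normalizerMonoidHom ⟨g, hg⟩) y from Subtype.ext rfl) ▸ this
  have hVH : ∀ v (hv : v ∈ V), (⟨v, hVQ hv⟩ : Q) ∈ H := fun v hv =>
    hself (mem_centralizer_iff.mpr fun y _ => Subtype.ext (hVc v hv y y.2).symm)
  have hVL : V ≤ L := fun v hv => hmemL.mpr ⟨hVQ hv, hVH v hv, by rw [(hV v (hVQ hv)).mpr hv, one_mul]⟩
  refine ⟨L, hVL, map_subtype_le _, ?_, ?_, ?_, ?_, ?_⟩
  · intro g hg x hx
    obtain ⟨hxQ, hxH, h4⟩ := hmemL.mp hx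
    have h := (mem_normalizer_iff.mp hg x).mp hxQ
    refine hmemL.mpr ⟨h, hinv g hg ⟨x, hxQ⟩ hxH h, ?_⟩
    calc g * x * g⁻¹ * (g * x * g⁻¹) * (g * x * g⁻¹ * (g * x * g⁻¹)) = g * (x * x * (x * x)) * g⁻¹ := by group
      _ = 1 := by rw [h4, mul_one, mul_inv_cancel]
  · intro x hx
    obtain ⟨hxQ, -, h4⟩ := hmemL.mp hx
    exact (hV _ (mul_mem hxQ hxQ)).mp h4
  · intro x hx y hy
    obtain ⟨hxQ, hxH, -⟩ := hmemL.mp hx
    obtain ⟨hyQ, hyH, -⟩ := hmemL.mp hy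
    refine (hV _ (mul_mem (mul_mem (mul_mem (inv_mem hxQ) hyQ) hxQ) (inv_mem hyQ))).mp ?_
    exact congrArg (fun t : H => ((t : Q) : G)) (hc2 ⟨⟨x, hxQ⟩, hxH⟩ ⟨⟨y, hyQ⟩, hyH⟩)
  · intro a ha hodd hfix x hx
    set H' := H.map Q.subtype with hH'
    have hH'Q : H' ≤ Q := map_subtype_le _
    have haH : zpowers a ≤ normalizer (H' : Set G) := zpowers_le.mpr (mem_normalizer_fintype (by
      rintro _ ⟨y, hy, rfl⟩
      exact ⟨⟨_, (mem_normalizer_iff.mp ha _).mp y.2⟩, hinv a ha y hy _, rfl⟩))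
    have h4fix : zpowers a ≤ centralizer (H' : Set G) := by
      refine GStructB.FixTwo.le_centralizer_of_fix_order_four ((hQ.to_subgroup H).map Q.subtype) haH
        (by rw [Nat.card_zpowers]; exact Nat.coprime_two_right.mpr hodd) ?_
      rintro _ ⟨y, hy, rfl⟩ h4 b hb
      have hyL : (y : G) ∈ L := hmemL.mpr ⟨y.2, hy, by
        calc (y : G) * y * (y * y) = (y : G) ^ 4 := by simp [pow_succ, mul_assoc]
          _ = 1 := h4⟩
      obtain ⟨k, rfl⟩ := mem_zpowers_iff.mp hb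
      exact ((show Commute a (y : G) from hfix _ hyL).zpow_left k).eq
    have haH' : ∀ c ∈ H', Commute a c := fun c hc => (mem_centralizer_iff.mp (h4fix (mem_zpowers a)) c hc).symm
    set z := x⁻¹ * (a * x * a⁻¹) with hz
    have hzQ : z ∈ Q := mul_mem (inv_mem hx) ((mem_normalizer_iff.mp ha x).mp hx)
    have hzH : (⟨z, hzQ⟩ : Q) ∈ H := by
      refine hself (mem_centralizer_iff.mpr fun c hc => Subtype.ext ?_)
      show (c : G) * z = z * c
      have hcH : x * c * x⁻¹ ∈ H' := ⟨⟨x, hx⟩ * c * ⟨x, hx⟩⁻¹, (inferInstance : H.Normal).conj_mem c hc _, rfl⟩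
      have e : x * c * x⁻¹ = a * x * c * x⁻¹ * a⁻¹ := by
        calc x * c * x⁻¹ = (x * c * x⁻¹) * a * a⁻¹ := by group
          _ = a * (x * c * x⁻¹) * a⁻¹ := by rw [(haH' _ hcH).eq]
          _ = _ := by group
      have hac : a * (c : G) = c * a := (haH' _ ⟨c, hc, rfl⟩).eq
      calc (c : G) * z = x⁻¹ * (x * c * x⁻¹) * (a * x * a⁻¹) := by rw [hz]; group
        _ = x⁻¹ * (a * x * c * x⁻¹ * a⁻¹) * (a * x * a⁻¹) := by rw [e]
        _ = x⁻¹ * a * x * (c * a⁻¹) := by group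
        _ = x⁻¹ * a * x * (a⁻¹ * c) := by
          congr 1
          calc (c : G) * a⁻¹ = a⁻¹ * (a * c) * a⁻¹ := by group
            _ = a⁻¹ * (c * a) * a⁻¹ := by rw [hac]
            _ = _ := by group
        _ = z * c := by rw [hz]; group
    have hcz : Commute a z := haH' z ⟨⟨z, hzQ⟩, hzH, rfl⟩
    have hd : a * x * a⁻¹ * x⁻¹ = x * z * x⁻¹ := by rw [hz]; group
    have hcd : Commute a (a * x * a⁻¹ * x⁻¹) := haH' _ (by
      rw [hd]; exact ⟨⟨x, hx⟩ * ⟨z, hzQ⟩ * ⟨x, hx⟩⁻¹, (inferInstance : H.Normal).conj_mem _ hzH _, rfl⟩)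
    refine Coprime.OmegaDetect.eq_one_of_fix hcd ?_
    obtain ⟨k, hk⟩ := IsPGroup.iff_orderOf.mp hQ ⟨_, mul_mem (mul_mem hx hzQ) (inv_mem hx)⟩
    rw [Subgroup.orderOf_mk] at hk
    rw [hd, hk]
    exact (Nat.coprime_two_right.mpr hodd).pow_right k
  · intro hlt
    refine lt_of_le_of_ne hVL fun hVeq => ?_
    have hHV : ∀ y : Q, y ∈ H → (y : G) ∈ V := by
      intro y hy
      obtain ⟨k, hk⟩ := IsPGroup.iff_orderOf.mp hQ y
      suffices ∀ (k : ℕ) (y : Q), y ∈ H → y ^ 2 ^ k = 1 → (y : G) ∈ V from this k y hy (hk ▸ pow_orderOf_eq_one y)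
      intro k
      induction k with
      | zero =>
        intro y _ h
        rw [pow_zero, pow_one] at h
        rw [h]; exact one_mem _
      | succ k ih =>
        intro y hy h
        have hy2 := ih (y ^ 2) (pow_mem hy 2) (by rw [← pow_mul, ← pow_succ', h])
        have h2 := (hV _ (hVQ hy2)).mpr hy2
        rw [hVeq]
        exact hmemL.mpr ⟨y.2, hy, by
          calc (y : G) * y * (y * y) = ((y ^ 2 : Q) : G) * ((y ^ 2 : Q) : G) := by simp [pow_two]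
            _ = 1 := h2⟩
    refine hlt.ne (le_antisymm hVQ fun x hx => ?_)
    refine hHV ⟨x, hx⟩ (hself (mem_centralizer_iff.mpr fun y hy => Subtype.ext ?_))
    exact hVc _ (hHV y hy) x hx

end Cfsg.Agent.GenA.OneClass
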