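import Cfsg.Agent.GenA.OneClass.Blocks
import Cfsg.Agent.GenA.OneClass.AbelianSub
import Cfsg.Agent.GenA.OneClass.Squares
import Cfsg.Agent.Lib.Cores.Fitting
import Cfsg.Agent.Lib.PLocal.Cores
import Cfsg.Agent.Lib.Coprime.SchurZassenhaus
import Cfsg.Agent.Lib.Coprime.OmegaDetect
import Cfsg.Agent.Solvable.Basics

/-!
A finite solvable group without nontrivial normal subgroups of odd order, with one class of involutions and
more than one involution, has a normal Sylow 2-subgroup.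
-/

set_option autoImplicit false
set_option linter.unusedSectionVars false

namespace Cfsg.Agent.GenA.OneClass

open Cfsg Subgroup
open scoped Pointwise

universe u

/-- The standing hypothesis. -/
structure Setting (G : Type u) [Group G] : Prop where
  core : pPrimeCore 2 G = ⊥
  sol : Group.IsSolvable G
  conj : ∀ x y : G, x ≠ 1 → x * x = 1 → y ≠ 1 → y * y = 1 → ∃ g : G, g * x * g⁻¹ = y
  two : ∃ x y : G, x ≠ y ∧ x ≠ 1 ∧ x * x = 1 ∧ y ≠ 1 ∧ y * y = 1

variable {G : Type u} [Group G] [Finite G]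

instance : Fact (Nat.Prime 2) := ⟨Nat.prime_two⟩

theorem not_dvd_two {n : ℕ} (h : n.Coprime 2) : ¬ 2 ∣ n := fun hd =>
  absurd (Nat.eq_one_of_dvd_coprimes h hd dvd_rfl) (by norm_num)

theorem coprime_two {n : ℕ} (h : ¬ 2 ∣ n) : n.Coprime 2 :=
  ((Nat.prime_two.coprime_iff_not_dvd).mpr h).symm

theorem exists_sq_eq_one {x : G} (hx : x ≠ 1) {H : Subgroup G} (hxH : x ∈ H) (hH : IsPGroup 2 H) :
    ∃ t ∈ zpowers x, t ≠ 1 ∧ t * t = 1 := by
  obtain ⟨k, hk⟩ := IsPGroup.iff_orderOf.mp hH ⟨x, hxH⟩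
  rw [Subgroup.orderOf_mk] at hk
  rcases k with _ | k
  · exact absurd (orderOf_eq_one_iff.mp (by simpa using hk)) hx
  refine ⟨x ^ 2 ^ k, pow_mem (mem_zpowers x) _, fun h => ?_, ?_⟩
  · have := Nat.le_of_dvd (Nat.two_pow_pos k) (hk ▸ orderOf_dvd_of_pow_eq_one h)
    rw [pow_succ] at this
    have := Nat.two_pow_pos k
    omega
  · rw [← pow_add, ← two_mul, ← pow_succ', ← hk, pow_orderOf_eq_one]

/-- The subgroup of involutions. -/
theorem exists_involutions (hG : Setting G) :
    centralizer (pCore 2 G : Set G) ≤ pCore 2 G ∧ ∃ V : Subgroup G, V.Normal ∧ V ≤ pCore 2 G ∧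
      (∀ x : G, x * x = 1 ↔ x ∈ V) ∧ ∀ v ∈ V, ∀ x ∈ pCore 2 G, v * x = x * v := by
  set Q := pCore 2 G
  have hQp : IsPGroup 2 Q := Cores.pCore_isPGroup 2
  haveI := hG.sol
  have hF : fittingSubgroup G ≤ Q := by
    rw [Cores.fittingSubgroup_eq_iSup]
    refine iSup_le fun q => ?_
    haveI := Fact.mk (Nat.prime_of_mem_primeFactors q.2)
    by_cases h2 : (q : ℕ) = 2
    · rw [h2]
    · refine le_trans (Cores.le_pPrimeCore ?_) (hG.core.le.trans bot_le)
      obtain ⟨k, hk⟩ := (Cores.pCore_isPGroup (G := G) (q : ℕ)).exists_card_eq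
      rw [hk]
      exact ((Nat.coprime_primes (Nat.prime_of_mem_primeFactors q.2) Nat.prime_two).mpr h2).pow_left k
  have hself : centralizer (Q : Set G) ≤ Q :=
    (centralizer_le hF).trans (Cores.centralizer_fittingSubgroup_le.trans hF)
  refine ⟨hself, ?_⟩
  obtain ⟨x₀, y₀, -, hx₀, -⟩ := hG.two
  haveI : Nontrivial Q := by
    refine (nontrivial_iff_ne_bot Q).mpr fun h => hx₀ (mem_bot.mp (h ▸ hself ?_))
    rw [h]
    exact mem_centralizer_iff.mpr fun z hz => by rw [mem_bot.mp hz, one_mul, mul_one]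
  haveI := hQp.center_nontrivial
  obtain ⟨⟨⟨z, hzQ⟩, hzc⟩, hz1⟩ := exists_ne (1 : center Q)
  have hz1' : z ≠ 1 := fun h => hz1 (Subtype.ext (Subtype.ext h))
  obtain ⟨t, ht, ht1, ht2⟩ := exists_sq_eq_one hz1' hzQ hQp
  have htQ : t ∈ Q := zpowers_le.mpr hzQ ht
  have htc : ∀ x ∈ Q, t * x = x * t := by
    intro x hx
    obtain ⟨j, rfl⟩ := mem_zpowers_iff.mp ht
    exact ((show Commute z x from congrArg Subtype.val (mem_center_iff.mp hzc ⟨x, hx⟩).symm).zpow_left j).eq
  have hall : ∀ v : G, v * v = 1 → v ∈ Q ∧ ∀ x ∈ Q, v * x = x * v := by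
    intro v hv
    by_cases hv1 : v = 1
    · subst hv1; exact ⟨one_mem _, fun x _ => by rw [one_mul, mul_one]⟩
    obtain ⟨g, rfl⟩ := hG.conj t v ht1 ht2 hv1 hv
    refine ⟨Normal.conj_mem inferInstance t htQ g, fun x hx => ?_⟩
    have h := htc _ (Normal.conj_mem (H := Q) inferInstance x hx g⁻¹)
    rw [inv_inv] at h
    calc g * t * g⁻¹ * x = g * (t * (g⁻¹ * x * g)) * g⁻¹ := by group
      _ = _ := by rw [h]; group
  refine ⟨{ carrier := {v | v * v = 1}
            one_mem' := one_mul 1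
            mul_mem' := fun {a b} ha hb => ?_
            inv_mem' := fun {a} ha => ?_ }, ⟨fun v hv g => ?_⟩, fun v hv => (hall v hv).1, fun x => Iff.rfl,
    fun v hv => (hall v hv).2⟩
  · show a * b * (a * b) = 1
    calc a * b * (a * b) = a * (b * a) * b := by group
      _ = a * a * (b * b) := by rw [← (hall a ha).2 b (hall b hb).1]; group
      _ = 1 := by rw [show a * a = 1 from ha, show b * b = 1 from hb, one_mul]
  · show a⁻¹ * a⁻¹ = 1
    rw [← mul_inv_rev, show a * a = 1 from ha, inv_one]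
  · show g * v * g⁻¹ * (g * v * g⁻¹) = 1
    calc g * v * g⁻¹ * (g * v * g⁻¹) = g * (v * v) * g⁻¹ := by group
      _ = 1 := by rw [show v * v = 1 from hv, mul_one, mul_inv_cancel]

set_option maxHeartbeats 1600000 in
/-- The main theorem. -/
theorem not_dvd_index : ∀ (n : ℕ) (G : Type u) [Group G] [Finite G], Nat.card G = n → Setting G →
    ¬ 2 ∣ (pCore 2 G).index := by
  intro n
  induction n using Nat.strong_induction_on with
  | _ n ih =>
  intro G _ _ hn hG h2
  classical
  obtain ⟨hself, V, hVn, hVQ, hV, hVc⟩ := exists_involutions hG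
  haveI := hVn
  haveI := hG.sol
  have hVexp : ∀ v ∈ V, v * v = 1 := fun v hv => (hV v).mpr hv
  have hV3 : 3 ≤ Nat.card V := by
    obtain ⟨x, y, hxy, hx1, hx, hy1, hy⟩ := hG.two
    let f : Fin 3 → V := ![1, ⟨x, (hV x).mp hx⟩, ⟨y, (hV y).mp hy⟩]
    have hf : Function.Injective f := by
      intro i j h
      fin_cases i <;> fin_cases j <;> simp [f, Subtype.ext_iff] at h ⊢ <;>
        first | exact absurd h hx1 | exact absurd h.symm hx1 | exact absurd h hy1 | exact absurd h.symm hy1 |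
          exact absurd h hxy | exact absurd h.symm hxy
    simpa using Nat.card_le_card_of_injective f hf
  set Q := pCore 2 G with hQdef
  have hQp : IsPGroup 2 Q := Cores.pCore_isPGroup 2
  set C := centralizer (V : Set G) with hC
  haveI : C.Normal := inferInstance
  have hQC : Q ≤ C := fun x hx => mem_centralizer_iff.mpr fun v hv => hVc v hv x hx
  have hfixW : ∀ W : Subgroup G, W.Normal → ∀ v ∈ V, v ≠ 1 → (∀ w ∈ W, w * v = v * w) → W ≤ C := by
    intro W hW v hv hv1 hfix w hw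
    refine mem_centralizer_iff.mpr fun u hu => ?_
    by_cases hu1 : u = 1
    · rw [hu1, one_mul, mul_one]
    obtain ⟨g, rfl⟩ := hG.conj v u hv1 (hVexp v hv) hu1 (hVexp u hu)
    have h := hfix _ (hW.conj_mem w hw g⁻¹)
    rw [inv_inv] at h
    calc g * v * g⁻¹ * w = g * (v * (g⁻¹ * w * g)) * g⁻¹ := by group
      _ = _ := by rw [← h]; group
  set π := QuotientGroup.mk' Q with hπ
  have hπs : Function.Surjective π := QuotientGroup.mk'_surjective Q
  have hX2 : pCore 2 (G ⧸ Q) = ⊥ := Cores.pCore_quotient_self 2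
  set Cb := C.map π with hCb
  haveI : Cb.Normal := Subgroup.Normal.map inferInstance π hπs
  have hCcomap : Cb.comap π = C := by
    rw [hCb, comap_map_eq, QuotientGroup.ker_mk', sup_eq_left.mpr hQC]
  by_cases hC2 : 2 ∣ Nat.card Cb
  swap
  · -- the centralizer of the involutions is odd modulo `O_2`
    have hCi : 2 ∣ C.index := by
      have h1 : Cb.index = C.index := by
        rw [← index_comap_of_surjective Cb hπs, hCcomap]
      rw [← h1]
      have h3 : 2 ∣ Nat.card Cb * Cb.index := by rw [card_mul_index]; exact h2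
      exact (Nat.prime_two.dvd_mul.mp h3).resolve_left hC2
    have hCtop : C ≠ ⊤ := fun h => by rw [h, index_top] at hCi; norm_num at hCi
    obtain ⟨M, -, hMmin⟩ := Set.Finite.exists_le_minimal
      (Set.toFinite {M : Subgroup (G ⧸ C) | M.Normal ∧ M ≠ ⊥}) (a := ⊤) ⟨inferInstance, fun h => hCtop (by
        rw [← index_eq_one, index_eq_card, ← card_top, h, card_bot])⟩
    obtain ⟨hMn, hM0⟩ := hMmin.1
    haveI := hMn
    obtain ⟨-, q, hq, hMq⟩ := Solvable.Basics.minimal_normal_solvable (inferInstance : Group.IsSolvable M) hM0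
      (fun M' hM' hle => by
        by_cases h0 : M' = ⊥
        · exact Or.inl h0
        · exact Or.inr (le_antisymm hle (hMmin.2 ⟨hM', h0⟩ hle)))
    haveI := Fact.mk hq
    set W := M.comap (QuotientGroup.mk' C) with hW
    haveI : W.Normal := hMn.comap _
    have hCW : C ≤ W := fun c hc => by
      rw [hW, mem_comap, QuotientGroup.mk'_apply, (QuotientGroup.eq_one_iff c).mpr hc]; exact one_mem _
    have hWC : ¬ W ≤ C := fun h => hM0 (by
      rw [eq_bot_iff, ← map_comap_eq_self_of_surjective (QuotientGroup.mk'_surjective C) M]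
      rintro _ ⟨w, hw, rfl⟩
      exact mem_bot.mpr ((QuotientGroup.eq_one_iff w).mpr (h hw)))
    obtain ⟨S⟩ : Nonempty (Sylow q W) := inferInstance
    set K := (S : Subgroup W).map W.subtype with hK
    have hKW : K ≤ W := map_subtype_le _
    have hKp : IsPGroup q K := S.isPGroup'.map _
    have hCK : C ⊔ K = W := by
      refine le_antisymm (sup_le hCW hKW) (relIndex_eq_one.mp ?_)
      have h1 : (C ⊔ K).relIndex W ∣ C.relIndex W := relIndex_dvd_of_le_left W le_sup_left
      have h2 : (C ⊔ K).relIndex W ∣ K.relIndex W := relIndex_dvd_of_le_left W le_sup_right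
      have h3 : ¬ q ∣ K.relIndex W := by
        rw [hK, relIndex, subgroupOf, comap_map_eq_self_of_injective W.subtype_injective]
        exact S.not_dvd_index
      obtain ⟨i, hi⟩ := (show IsPGroup q M from fun x =>
        ⟨1, Subtype.ext (by rw [pow_one]; exact hMq x x.2)⟩).exists_card_eq
      have h6 := relIndex_ker (QuotientGroup.mk' C) (K := W)
      rw [QuotientGroup.ker_mk', hW, map_comap_eq_self_of_surjective (QuotientGroup.mk'_surjective C)] at h6
      obtain ⟨j, -, hj⟩ := (Nat.dvd_prime_pow hq).mp ((h6.trans hi) ▸ h1)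
      rcases Nat.eq_zero_or_pos j with rfl | hj0
      · simpa using hj
      · exact absurd ((dvd_pow_self q hj0.ne').trans (hj ▸ h2)) h3
    have hfixK : ∀ v ∈ V, v ≠ 1 → ¬ ∀ k ∈ K, k * v = v * k := by
      intro v hv hv1 hk
      refine hWC (hfixW W inferInstance v hv hv1 fun w hw => ?_)
      have : C ⊔ K ≤ centralizer {v} := sup_le
        (fun c hc => mem_centralizer_singleton_iff.mpr (mem_centralizer_iff.mp hc v hv).symm)
        (fun k hk' => mem_centralizer_singleton_iff.mpr (hk k hk'))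
      exact mem_centralizer_singleton_iff.mp (this (hCK.ge hw))
    by_cases hq2 : q = 2
    · subst hq2
      have hKV : K ≤ normalizer (V : Set G) := le_normalizer_of_normal
      have hU : IsPGroup 2 ↥(K ⊔ V) := hKp.to_sup_of_normal_right' (hQp.to_le hVQ) hKV
      haveI := hU.isNilpotent
      have hne : V.subgroupOf (K ⊔ V) ≠ ⊥ := by
        rw [Ne, subgroupOf_eq_bot, disjoint_iff, inf_eq_left.mpr le_sup_right]
        intro h; rw [h, card_bot] at hV3; omega
      obtain ⟨v, hv, hv1⟩ := (Subgroup.ne_bot_iff_exists_ne_one).mp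
        (Solvable.Basics.inf_center_ne_bot hne) |> fun ⟨⟨v, hv⟩, hv1⟩ => (⟨v, hv, fun h => hv1 (Subtype.ext h)⟩ :
          ∃ v, v ∈ V.subgroupOf (K ⊔ V) ⊓ center ↥(K ⊔ V) ∧ v ≠ 1)
      exact hfixK v hv.1 (fun h => hv1 (Subtype.ext h)) fun k hk =>
        congrArg Subtype.val (mem_center_iff.mp hv.2 ⟨k, mem_sup_left hk⟩)
    set N := normalizer (K : Set G) with hN
    have hsup : C ⊔ N = ⊤ := by
      rw [eq_top_iff, ← Sylow.normalizer_sup_eq_top S, ← hK]
      exact sup_le le_sup_right (hCK ▸ sup_le le_sup_left (le_sup_of_le_right le_normalizer))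
    have hNQ : N ⊓ Q = ⊥ := by
      have hQK : K ⊓ Q = ⊥ := by
        refine inf_eq_bot_of_coprime ?_
        obtain ⟨i, hi⟩ := hKp.exists_card_eq
        obtain ⟨j, hj⟩ := hQp.exists_card_eq
        rw [hi, hj]
        exact ((Nat.coprime_primes hq Nat.prime_two).mpr hq2).pow i j
      rw [eq_bot_iff]
      intro x hx
      by_contra hx1
      obtain ⟨t, ht, ht1, ht2⟩ := exists_sq_eq_one (fun h => hx1 (mem_bot.mpr h)) hx.2 hQp
      have htN : t ∈ N ⊓ Q := zpowers_le.mpr hx ht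
      refine hfixK t ((hV t).mp ht2) ht1 fun k hk => ?_
      have h1 : t * k * t⁻¹ * k⁻¹ ∈ K ⊓ Q := ⟨mul_mem ((mem_normalizer_iff.mp htN.1 k).mp hk) (K.inv_mem hk), by
        rw [mul_assoc t, mul_assoc t]
        exact Q.mul_mem htN.2 (Normal.conj_mem (H := Q) inferInstance _ (Q.inv_mem htN.2) k)⟩
      rw [hQK, mem_bot, mul_inv_eq_one, mul_inv_eq_iff_eq_mul] at h1
      exact h1.symm
    have hN2 : 2 ∣ Nat.card N := by
      refine hCi.trans (dvd_trans (dvd_of_eq ?_) (relIndex_dvd_card C N))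
      rw [← relIndex_top_right, ← hsup, sup_comm, relIndex_sup_right]
    obtain ⟨⟨t, htN⟩, ht⟩ := exists_prime_orderOf_dvd_card' 2 hN2
    rw [Subgroup.orderOf_mk] at ht
    have ht2 : t * t = 1 := by rw [← pow_two, ← ht, pow_orderOf_eq_one]
    have htb : t ∈ (⊥ : Subgroup G) := hNQ.le ⟨htN, hVQ ((hV t).mp ht2)⟩
    rw [mem_bot.mp htb, orderOf_one] at ht
    norm_num at ht
  -- the centralizer of the involutions is even modulo `O_2`
  haveI : Group.IsSolvable Cb := inferInstance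
  haveI : Nontrivial Cb := Finite.one_lt_card_iff_nontrivial.mp (Nat.le_of_dvd Nat.card_pos hC2)
  set F := fittingSubgroup Cb with hF
  set Fb := F.map Cb.subtype with hFb
  haveI : F.Characteristic := Cores.fittingSubgroup_characteristic
  haveI hFbn : Fb.Normal := by rw [hFb]; infer_instance
  have hFnil : Group.IsNilpotent F := Cores.fittingSubgroup_isNilpotent
  have hFodd : ¬ 2 ∣ Nat.card Fb := by
    have h0 : pCore 2 Cb = ⊥ := by
      have := Cores.map_pCore_subtype_le 2 Cb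
      rw [hX2, le_bot_iff, map_eq_bot_iff_of_injective _ Cb.subtype_injective] at this
      exact this
    obtain ⟨P⟩ : Nonempty (Sylow 2 F) := inferInstance
    rw [hFb, card_subtype]
    intro hd
    refine P.ne_bot_of_dvd_card hd ?_
    have := Cores.sylow_fitting_map P
    rwa [h0, map_eq_bot_iff_of_injective _ F.subtype_injective] at this
  have hF0 : Fb ≠ ⊥ := by
    rw [hFb, Ne, map_eq_bot_iff_of_injective _ Cb.subtype_injective]
    exact Cores.fittingSubgroup_ne_bot
  set F0 := Fb.comap π with hF0def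
  haveI : F0.Normal := hFbn.comap π
  have hQF : Q ≤ F0 := fun x hx => by
    rw [hF0def, mem_comap, hπ, QuotientGroup.mk'_apply, (QuotientGroup.eq_one_iff x).mpr hx]; exact one_mem _
  have hmapF0 : F0.map π = Fb := map_comap_eq_self_of_surjective hπs Fb
  have hcopF : (Nat.card Q).Coprime (Nat.card Fb) := by
    obtain ⟨j, hj⟩ := hQp.exists_card_eq
    rw [hj]; exact (coprime_two hFodd).symm.pow_left j
  have hidxF : Q.relIndex F0 = Nat.card Fb := by
    have := relIndex_ker π (K := F0)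
    rwa [QuotientGroup.ker_mk', hmapF0] at this
  obtain ⟨K₀, hK₀⟩ := exists_right_complement'_of_coprime (N := Q.subgroupOf F0)
    (by
      rw [Nat.card_congr (subgroupOfEquivOfLe hQF).toEquiv]
      show (Nat.card Q).Coprime (Q.relIndex F0)
      rw [hidxF]; exact hcopF)
  set K := K₀.map F0.subtype with hKdef
  have hKF : K ≤ F0 := map_subtype_le _
  have hKcard : Nat.card K = Nat.card Fb := by
    rw [hKdef, card_subtype, ← hK₀.symm.index_eq_card]; exact hidxF
  have hKodd : ¬ 2 ∣ Nat.card K := hKcard ▸ hFodd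
  have hKQc : (Nat.card Q).Coprime (Nat.card K) := hKcard ▸ hcopF
  have hKQ : K ⊓ Q = ⊥ := inf_eq_bot_of_coprime hKQc.symm
  have hsupF : Q ⊔ K = F0 := by
    have h := congrArg (Subgroup.map F0.subtype) hK₀.sup_eq_top
    rw [Subgroup.map_sup, map_subgroupOf_eq_of_le hQF, ← MonoidHom.range_eq_map, range_subtype] at h
    exact h
  have hπK : K.map π = Fb := by
    rw [← hmapF0, ← hsupF, Subgroup.map_sup, (Subgroup.map_eq_bot_iff Q).mpr (by rw [hπ, QuotientGroup.ker_mk']), bot_sup_eq]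
  have hKC : K ≤ C := hKF.trans (by rw [← hCcomap, hF0def]; exact comap_mono (map_subtype_le _))
  have hKV : ∀ v ∈ V, ∀ k ∈ K, k * v = v * k := fun v hv k hk => (mem_centralizer_iff.mp (hKC hk) v hv).symm
  set N := normalizer (K : Set G) with hN
  have hNQ : Q ⊔ N = ⊤ := by
    rw [eq_top_iff]
    intro g _
    have hg1 : MulAut.conj g • K ≤ F0 := by
      intro x hx
      rw [mem_pointwise_smul_iff_inv_smul_mem] at hx
      have := Normal.conj_mem (H := F0) inferInstance _ (hKF hx) g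
      simpa [mul_assoc] using this
    have hcg : (Nat.card Q).Coprime (Nat.card ↥(MulAut.conj g • K)) := by
      rwa [Nat.card_congr (equivSMul (MulAut.conj g) K).symm.toEquiv]
    have heq : Q ⊔ K = Q ⊔ MulAut.conj g • K := by
      refine le_antisymm ?_ (sup_le le_sup_left (hg1.trans hsupF.ge))
      have h : MulAut.conj g • (Q ⊔ K) = Q ⊔ MulAut.conj g • K := by
        rw [smul_sup, Normal.conj_smul_eq_self g Q]
      rw [← h, hsupF, Normal.conj_smul_eq_self g F0]
    obtain ⟨x, hx, hxK⟩ := Coprime.exists_conj_eq_of_sup_eq le_normalizer_of_normal le_normalizer_of_normal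
      heq hKQc hcg (Or.inl (inferInstance : Group.IsSolvable Q))
    have hxg : x⁻¹ * g ∈ N := mem_normalizer_fintype fun k hk => by
      have hmem : g * k * g⁻¹ ∈ MulAut.conj g • K := smul_mem_pointwise_smul k (MulAut.conj g) K hk
      rw [← hxK, mem_pointwise_smul_iff_inv_smul_mem] at hmem
      simpa [mul_assoc] using hmem
    rw [show g = x * (x⁻¹ * g) by group]
    exact mul_mem (mem_sup_left hx) (mem_sup_right hxg)
  have htrans : ∀ v ∈ V, ∀ w ∈ V, v ≠ 1 → w ≠ 1 → ∃ g ∈ N, g * v * g⁻¹ = w := by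
    intro v hv w hw hv1 hw1
    obtain ⟨g, rfl⟩ := hG.conj v w hv1 (hVexp v hv) hw1 (hVexp w hw)
    obtain ⟨x, hx, m, hm, rfl⟩ := mem_sup_of_normal_left.mp (hNQ.ge (mem_top g))
    refine ⟨m, hm, ?_⟩
    have h1 := hVc _ (Normal.conj_mem (H := V) inferInstance v hv m) x hx
    calc m * v * m⁻¹ = m * v * m⁻¹ * x * x⁻¹ := by group
      _ = x * (m * v * m⁻¹) * x⁻¹ := by rw [h1]
      _ = _ := by group
  set R := Q ⊓ N with hR
  have hVN : V ≤ N := fun v hv => mem_normalizer_fintype fun k hk => by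
    rw [← hKV v hv k hk, mul_inv_cancel_right]; exact hk
  have hVR : V ≤ R := le_inf hVQ hVN
  have hRK : ∀ r ∈ R, ∀ k ∈ K, k * r = r * k := by
    intro r hr k hk
    have h1 : r * k * r⁻¹ * k⁻¹ ∈ K ⊓ Q := ⟨mul_mem ((mem_normalizer_iff.mp hr.2 k).mp hk) (K.inv_mem hk), by
      rw [mul_assoc r, mul_assoc r]
      exact Q.mul_mem hr.1 (Normal.conj_mem (H := Q) inferInstance _ (Q.inv_mem hr.1) k)⟩
    rw [hKQ, mem_bot, mul_inv_eq_one, mul_inv_eq_iff_eq_mul] at h1
    exact h1.symm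
  have hK0 : ¬ ∀ k ∈ K, ∀ x ∈ Q, k * x = x * k := by
    intro h
    refine hF0 (eq_bot_of_card_eq _ ?_)
    rw [← hKcard, show K = ⊥ from eq_bot_iff.mpr (fun k hk => hKQ.le
      ⟨hk, hself (mem_centralizer_iff.mpr fun x hx => (h k hk x hx).symm)⟩), card_bot]
  have hoddK : ∀ k ∈ K, Odd (orderOf k) := fun k hk =>
    Nat.not_even_iff_odd.mp fun he => hKodd (even_iff_two_dvd.mp he |>.trans (Subgroup.orderOf_dvd_natCard K hk))
  obtain ⟨L, hVL, hLQ, hLn, hLsq, hLcom, hLdet, -⟩ :=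
    exists_squares_subgroup hQp hVQ hVc (fun x _ => hV x)
  have hQtop : normalizer (Q : Set G) = ⊤ := normalizer_eq_top_iff.mpr inferInstance
  haveI hLnormal : L.Normal := ⟨fun x hx g => hLn g (hQtop.ge (mem_top g)) x hx⟩
  have hmoved : ∃ k ∈ K, ∃ x ∈ L, k * x ≠ x * k := by
    by_contra hc
    push_neg at hc
    exact hK0 fun k hk x hx => hLdet k (hQtop.ge (mem_top k)) (hoddK k hk) (hc k hk) x hx
  have key : ∀ U : Subgroup G, U ≤ R → (∀ g ∈ N, ∀ x ∈ U, g * x * g⁻¹ ∈ U) → ∀ y ∈ L,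
      (∃ k ∈ K, k * y ≠ y * k) → (∀ r ∈ U, r * r ∈ V → r * y * r⁻¹ * y⁻¹ ∈ V) →
      ∀ x ∈ U, x * x ∈ V → x ∈ V := by
    intro U hUR hUn y hy hky hcy x hx hx2
    obtain ⟨k, hk, hky⟩ := hky
    by_contra hxV
    set z := y⁻¹ * (k * y * k⁻¹) with hz
    have hzL : z ∈ L := mul_mem (inv_mem hy) (hLnormal.conj_mem y hy k)
    have hkz : ¬ Commute k z := by
      intro hc
      have h := Coprime.OmegaDetect.eq_one_of_fix (g := k) (x := y⁻¹) (by
        rw [show k * y⁻¹ * k⁻¹ * y⁻¹⁻¹ = z⁻¹ by rw [hz]; group]; exact hc.inv_right) (by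
        rw [show k * y⁻¹ * k⁻¹ * y⁻¹⁻¹ = z⁻¹ by rw [hz]; group, orderOf_inv]
        obtain ⟨j, hj⟩ := IsPGroup.iff_orderOf.mp hQp ⟨z, hLQ hzL⟩
        rw [Subgroup.orderOf_mk] at hj
        rw [hj]
        exact (Nat.coprime_two_right.mpr (hoddK k hk)).pow_right j)
      exact hky (Commute.inv_right_iff.mp (show Commute k y⁻¹ from h))
    have hzV : z ∉ V := fun h => hkz (hKV z h k hk)
    have hx1 : x * x ≠ 1 := fun h => hxV ((hV x).mp h)
    have hz1 : z * z ≠ 1 := fun h => hzV ((hV z).mp h)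
    obtain ⟨g, hg, hgxz⟩ := htrans _ hx2 _ (hLsq z hzL) hx1 hz1
    set x' := g * x * g⁻¹
    have hx' : x' ∈ U := hUn g hg x hx
    have hx'2 : x' * x' = z * z := by rw [← hgxz]; simp only [x']; group
    set c := x' * y * x'⁻¹ * y⁻¹
    have hc : c ∈ V := hcy x' hx' (by rw [hx'2]; exact hLsq z hzL)
    have hkx : k * x' = x' * k := hRK x' (hUR hx') k hk
    have hkc : k * c * k⁻¹ = c := by rw [hKV c hc k hk, mul_inv_cancel_right]
    have hcom : x' * z * x'⁻¹ = z := by
      have e1 : x' * y * x'⁻¹ = c * y := by simp only [c]; group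
      have e2 : x' * (k * y * k⁻¹) * x'⁻¹ = c * (k * y * k⁻¹) := by
        calc x' * (k * y * k⁻¹) * x'⁻¹ = (x' * k) * y * (x' * k)⁻¹ := by group
          _ = (k * x') * y * (k * x')⁻¹ := by rw [hkx]
          _ = k * (x' * y * x'⁻¹) * k⁻¹ := by group
          _ = k * c * k⁻¹ * (k * y * k⁻¹) := by rw [e1]; group
          _ = _ := by rw [hkc]
      calc x' * z * x'⁻¹ = (x' * y * x'⁻¹)⁻¹ * (x' * (k * y * k⁻¹) * x'⁻¹) := by rw [hz]; group
        _ = z := by rw [e1, e2, hz]; group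
    rw [mul_inv_eq_iff_eq_mul] at hcom
    have h4 : x' * z * (x' * z) = 1 := by
      calc x' * z * (x' * z) = x' * (z * x') * z := by group
        _ = x' * x' * (z * z) := by rw [← hcom]; group
        _ = 1 := by rw [hx'2, hVexp _ (hLsq z hzL)]
    have hv := (hV _).mp h4
    refine hkz ?_
    have h5 : Commute k (x' * z) := hKV _ hv k hk
    have h6 := (show Commute k x' from hkx).inv_right.mul_right h5
    rwa [inv_mul_cancel_left] at h6
  have hRL : ∀ x ∈ L, x ∈ R → x ∈ V := fun x hxL hxR => by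
    obtain ⟨k, hk, y, hy, hky⟩ := hmoved
    exact key (L ⊓ R) inf_le_right (fun g hg a ha => ⟨hLnormal.conj_mem a ha.1 g,
      ⟨Normal.conj_mem (H := Q) inferInstance a ha.2.1 g, N.mul_mem (N.mul_mem hg ha.2.2) (N.inv_mem hg)⟩⟩)
      y hy ⟨k, hk, hky⟩ (fun r hr _ => by
        have := hLcom r⁻¹ (L.inv_mem hr.1) y hy
        rwa [inv_inv] at this) x ⟨hxL, hxR⟩ (hLsq x hxL)
  -- an element of `L` central modulo the involutions
  obtain ⟨y, hy, hyV, hyQ⟩ : ∃ y ∈ L, y ∉ V ∧ ∀ r ∈ Q, r * y * r⁻¹ * y⁻¹ ∈ V := by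
    set ν := QuotientGroup.mk' V
    have hU : IsPGroup 2 ↥(Q.map ν) := hQp.map ν
    haveI := hU.isNilpotent
    haveI : (L.map ν).Normal := Subgroup.Normal.map inferInstance ν (QuotientGroup.mk'_surjective V)
    have hne : (L.map ν).subgroupOf (Q.map ν) ≠ ⊥ := by
      intro h
      rw [subgroupOf_eq_bot, disjoint_iff, inf_eq_left.mpr (map_mono hLQ), Subgroup.map_eq_bot_iff,
        QuotientGroup.ker_mk'] at h
      obtain ⟨k, hk, x, hx, hkx⟩ := hmoved
      exact hkx (hKV x (h hx) k hk)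
    obtain ⟨⟨⟨u, huQ⟩, hu⟩, hu1⟩ := (Subgroup.ne_bot_iff_exists_ne_one).mp (Solvable.Basics.inf_center_ne_bot hne)
    obtain ⟨y, hy, rfl⟩ := mem_subgroupOf.mp hu.1
    refine ⟨y, hy, fun h => hu1 (Subtype.ext (Subtype.ext ((QuotientGroup.eq_one_iff y).mpr h))), fun r hr => ?_⟩
    have h' : ν r * ν y = ν y * ν r := congrArg Subtype.val (mem_center_iff.mp hu.2 ⟨ν r, r, hr, rfl⟩)
    rw [← QuotientGroup.eq_one_iff]
    show ν (r * y * r⁻¹ * y⁻¹) = 1
    rw [map_mul, map_mul, map_mul, map_inv, map_inv, h', mul_inv_cancel_right, mul_inv_cancel]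
  have hRV : ∀ x ∈ R, x ∈ V := by
    have hky : ∃ k ∈ K, k * y ≠ y * k := by
      by_contra hc
      push_neg at hc
      refine hyV (hRL y hy ⟨hLQ hy, mem_normalizer_fintype fun k hk => ?_⟩)
      rw [← hc k hk, mul_inv_cancel_right]; exact hk
    suffices ∀ (j : ℕ) (x : G), x ∈ R → x ^ 2 ^ j = 1 → x ∈ V by
      intro x hx
      obtain ⟨j, hj⟩ := IsPGroup.iff_orderOf.mp hQp ⟨x, hx.1⟩
      rw [Subgroup.orderOf_mk] at hj
      exact this j x hx (hj ▸ pow_orderOf_eq_one x)
    intro j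
    induction j with
    | zero =>
      intro x _ h
      rw [pow_zero, pow_one] at h
      exact h ▸ one_mem V
    | succ j ihj =>
      intro x hx h
      refine key R le_rfl (fun g hg a ha => ⟨Normal.conj_mem (H := Q) inferInstance a ha.1 g,
        N.mul_mem (N.mul_mem hg ha.2) (N.inv_mem hg)⟩) y hy hky (fun r hr _ => hyQ r hr.1) x hx ?_
      exact ihj (x * x) (mul_mem hx hx) (by rw [← pow_two, ← pow_mul, ← pow_succ', h])
  -- the smaller group `N` modulo its odd core
  have hNtop : N ≠ ⊤ := by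
    intro h
    haveI : K.Normal := normalizer_eq_top_iff.mp h
    have hK1 : K = ⊥ := le_bot_iff.mp (hG.core ▸ Cores.le_pPrimeCore (coprime_two hKodd))
    refine hF0 (eq_bot_of_card_eq _ ?_)
    rw [← hKcard, hK1, card_bot]
  set O := pPrimeCore 2 N with hO
  have hOodd : (Nat.card O).Coprime 2 := PLocal.Cores.coprime_card_pPrimeCore
  set Ng := QuotientGroup.mk' O with hNg
  have hlift : ∀ a : N, a ∉ O → a * a ∈ O → ∃ s : N, Ng s = Ng a ∧ (s : G) ≠ 1 ∧ (s : G) * s = 1 := by
    intro a ha ha2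
    obtain ⟨j, m, hm, hjm⟩ := Nat.exists_eq_two_pow_mul_odd (orderOf_pos a).ne'
    have hs : Ng (a ^ m) = Ng a := by
      obtain ⟨l, rfl⟩ := hm
      rw [map_pow, pow_succ, pow_mul, ← map_pow, show Ng (a ^ 2) = 1 from
        (QuotientGroup.eq_one_iff _).mpr (by rw [pow_two]; exact ha2), one_pow, one_mul]
    refine ⟨a ^ m, hs, fun h => ha ((QuotientGroup.eq_one_iff a).mp ?_), ?_⟩
    · rw [← QuotientGroup.mk'_apply, ← hNg, ← hs, show a ^ m = 1 from Subtype.ext h, map_one]
    · have hmem : a ^ m * a ^ m ∈ O := by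
        rw [← pow_add, ← two_mul, pow_mul, pow_two]; exact pow_mem ha2 m
      have hord : (a ^ m * a ^ m) ^ 2 ^ j = 1 := by
        rw [← pow_add, ← pow_mul, show (m + m) * 2 ^ j = orderOf a * 2 by rw [hjm]; ring, pow_mul,
          pow_orderOf_eq_one, one_pow]
      have h1 : a ^ m * a ^ m = 1 := orderOf_eq_one_iff.mp (Nat.eq_one_of_dvd_coprimes (hOodd.pow_right j)
        (Subgroup.orderOf_dvd_natCard O hmem) (orderOf_dvd_of_pow_eq_one hord))
      exact congrArg Subtype.val h1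
  have hVO : ∀ (x : N), (x : G) ∈ V → x ∈ O → x = 1 := fun x hxV hxO => by
    refine orderOf_eq_one_iff.mp (Nat.eq_one_of_dvd_coprimes hOodd (Subgroup.orderOf_dvd_natCard O hxO) ?_)
    refine orderOf_dvd_of_pow_eq_one (Subtype.ext ?_)
    rw [pow_two]
    exact hVexp _ hxV
  have hsetN : Setting (N ⧸ O) := by
    refine ⟨PLocal.Cores.pPrimeCore_quotient_pPrimeCore, inferInstance, ?_, ?_⟩
    · intro a b ha ha2 hb hb2
      obtain ⟨a, rfl⟩ := QuotientGroup.mk'_surjective O a
      obtain ⟨b, rfl⟩ := QuotientGroup.mk'_surjective O b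
      rw [← map_mul] at ha2 hb2
      obtain ⟨s, hs, hs1, hs2⟩ := hlift a (fun h => ha ((QuotientGroup.eq_one_iff a).mpr h))
        ((QuotientGroup.eq_one_iff _).mp ha2)
      obtain ⟨t, ht, ht1, ht2⟩ := hlift b (fun h => hb ((QuotientGroup.eq_one_iff b).mpr h))
        ((QuotientGroup.eq_one_iff _).mp hb2)
      obtain ⟨g, hg, hgst⟩ := htrans _ ((hV _).mp hs2) _ ((hV _).mp ht2) hs1 ht1
      refine ⟨Ng ⟨g, hg⟩, ?_⟩
      show Ng ⟨g, hg⟩ * Ng a * (Ng ⟨g, hg⟩)⁻¹ = Ng b
      rw [← hs, ← ht, ← map_inv, ← map_mul, ← map_mul]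
      exact congrArg Ng (Subtype.ext hgst)
    · obtain ⟨x, y', hxy, hx1, hx, hy1, hy'⟩ := hG.two
      have hxN := hVN ((hV x).mp hx)
      have hyN := hVN ((hV y').mp hy')
      refine ⟨Ng ⟨x, hxN⟩, Ng ⟨y', hyN⟩, fun h => hxy ?_, fun h => hx1 ?_, ?_, fun h => hy1 ?_, ?_⟩
      · have h1 := hVO (⟨x, hxN⟩⁻¹ * ⟨y', hyN⟩) (mul_mem (inv_mem ((hV x).mp hx)) ((hV y').mp hy'))
          (QuotientGroup.eq.mp ((show (QuotientGroup.mk ⟨x, hxN⟩ : N ⧸ O) = QuotientGroup.mk ⟨y', hyN⟩ from h)))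
        exact inv_mul_eq_one.mp (congrArg Subtype.val h1)
      · exact congrArg Subtype.val (hVO ⟨x, hxN⟩ ((hV x).mp hx) ((QuotientGroup.eq_one_iff _).mp h))
      · rw [← map_mul, show (⟨x, hxN⟩ : N) * ⟨x, hxN⟩ = 1 from Subtype.ext hx, map_one]
      · exact congrArg Subtype.val (hVO ⟨y', hyN⟩ ((hV y').mp hy') ((QuotientGroup.eq_one_iff _).mp h))
      · rw [← map_mul, show (⟨y', hyN⟩ : N) * ⟨y', hyN⟩ = 1 from Subtype.ext hy', map_one]
  have hlt : Nat.card (N ⧸ O) < n := by
    refine lt_of_le_of_lt (Nat.le_of_dvd Nat.card_pos (card_quotient_dvd_card O)) ?_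
    exact hn ▸ lt_of_le_of_ne (Nat.le_of_dvd Nat.card_pos (card_subgroup_dvd_card N))
      fun e => hNtop ((card_eq_iff_eq_top N).mp e)
  have hNind := ih _ hlt (N ⧸ O) rfl hsetN
  obtain ⟨-, V', -, -, hV', hV'c⟩ := exists_involutions hsetN
  set M0 := (pCore 2 (N ⧸ O)).comap Ng with hM0
  haveI : M0.Normal := Normal.comap inferInstance Ng
  have hM0V : ∀ m ∈ M0, ∀ v ∈ V, (m : G) * v = v * m := by
    intro m hm v hv
    set v' : N := ⟨v, hVN hv⟩
    have h1 : Ng v' ∈ V' := (hV' _).mp (by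
      rw [← map_mul, show v' * v' = 1 from Subtype.ext (hVexp v hv), map_one])
    have h2 : Ng (m * v' * m⁻¹ * v'⁻¹) = 1 := by
      rw [map_mul, map_mul, map_mul, map_inv, map_inv, ← hV'c _ h1 _ hm, mul_inv_cancel_right, mul_inv_cancel]
    have h3 := hVO (m * v' * m⁻¹ * v'⁻¹)
      (mul_mem (Normal.conj_mem (H := V) inferInstance v hv _) (inv_mem hv)) ((QuotientGroup.eq_one_iff _).mp h2)
    rw [mul_inv_eq_one, mul_inv_eq_iff_eq_mul] at h3
    exact congrArg Subtype.val h3
  obtain ⟨T0⟩ : Nonempty (Sylow 2 N) := inferInstance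
  have hT0 : (T0 : Subgroup N) ≤ M0 := by
    rw [← relIndex_eq_one]
    obtain ⟨i, hi⟩ := T0.isPGroup'.exists_card_eq
    have h1 : M0.relIndex T0 ∣ 2 ^ i := hi ▸ relIndex_dvd_card _ _
    have h2' : M0.relIndex T0 ∣ (pCore 2 (N ⧸ O)).index := by
      rw [← index_comap_of_surjective _ (QuotientGroup.mk'_surjective O)]
      exact relIndex_dvd_index_of_normal M0 _
    exact Nat.eq_one_of_dvd_coprimes ((coprime_two hNind).pow_right i).symm h1 h2'
  set T := (T0 : Subgroup N).map N.subtype with hT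
  have hTN : T ≤ N := map_subtype_le _
  have hTp : IsPGroup 2 T := T0.isPGroup'.map _
  have hTV : ∀ v ∈ V, ∀ x ∈ T, v * x = x * v := by
    rintro v hv _ ⟨x, hx, rfl⟩
    exact (hM0V x (hT0 hx) v hv).symm
  have hVT : V ≤ T := fun v hv => by
    refine ⟨⟨v, hVN hv⟩, ?_, rfl⟩
    haveI : (V.subgroupOf N).Normal := inferInstance
    exact ((hQp.to_le hVQ).comap_subtype.le_sylow_of_normal T0) hv
  have hTtrans : ∀ v ∈ V, ∀ w ∈ V, v ≠ 1 → w ≠ 1 →
      ∃ g ∈ N, g ∈ normalizer (T : Set G) ∧ g * v * g⁻¹ = w := by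
    intro v hv w hw hv1 hw1
    obtain ⟨g, hg, rfl⟩ := htrans v hv w hw hv1 hw1
    obtain ⟨a, ha, m, hm, hgam⟩ := mem_sup_of_normal_right.mp
      ((Sylow.normalizer_sup_eq_top' T0 hT0).ge (mem_top (⟨g, hg⟩ : N)))
    refine ⟨a, a.2, mem_normalizer_fintype ?_, ?_⟩
    · rintro _ ⟨x, hx, rfl⟩
      exact ⟨a * x * a⁻¹, (mem_normalizer_iff.mp ha x).mp hx, rfl⟩
    · have hgam' : (a : G) * m = g := congrArg Subtype.val hgam
      calc (a : G) * v * (a : G)⁻¹ = a * ((m : G) * v * (m : G)⁻¹) * (a : G)⁻¹ := by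
            rw [hM0V m hm v hv, mul_inv_cancel_right]
        _ = _ := by rw [← hgam']; group
  have hVTne : V < T := by
    refine lt_of_le_of_ne hVT fun hVTe => ?_
    have h1 : 2 ∣ V.relIndex N := by
      have e : Q.relIndex N = V.relIndex N := by
        rw [← inf_relIndex_right, show Q ⊓ N = V from
          le_antisymm (fun x hx => hRV x hx) (le_inf hVQ hVN)]
      rw [← e, ← relIndex_sup_right, sup_comm, hNQ, relIndex_top_right]
      exact h2
    refine T0.not_dvd_index ?_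
    rw [hVTe, hT, relIndex, subgroupOf, comap_map_eq_self_of_injective N.subtype_injective] at h1
    exact h1
  obtain ⟨L', hVL', hL'T, hL'n, hL'sq, hL'com, -, hL'lt⟩ :=
    exists_squares_subgroup hTp hVT hTV (fun x _ => hV x)
  obtain ⟨M, -, hMmin⟩ := Set.Finite.exists_le_minimal
    (Set.toFinite {M : Subgroup G | V < M ∧ M ≤ L' ∧ ∀ g ∈ N, g ∈ normalizer (T : Set G) → ∀ x ∈ M, g * x * g⁻¹ ∈ M})
    (a := L') ⟨hL'lt hVTne, le_rfl, fun g _ hg x hx => hL'n g hg x hx⟩
  obtain ⟨hVM, hML, hMn⟩ := hMmin.1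
  have hMT : M ≤ T := hML.trans hL'T
  have hMN : M ≤ N := hMT.trans hTN
  have hMC : M ≤ C := fun x hx => mem_centralizer_iff.mpr fun v hv => hTV v hv x (hMT hx)
  have hMK : ∀ x ∈ M, (∀ k ∈ K, k * x = x * k) → x ∈ V := by
    intro x hx hxK
    refine hRV x ⟨?_, hMN hx⟩
    have hxC : π x ∈ Cb := mem_map_of_mem π (hMC hx)
    have h1 : (⟨π x, hxC⟩ : Cb) ∈ F := by
      refine Cores.centralizer_fittingSubgroup_le (mem_centralizer_iff.mpr fun f hf => Subtype.ext ?_)
      obtain ⟨k, hk, hkf⟩ : (f : G ⧸ Q) ∈ K.map π := hπK.ge (mem_map_of_mem Cb.subtype hf)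
      show (f : G ⧸ Q) * π x = π x * f
      rw [← hkf, ← map_mul, ← map_mul, hxK k hk]
    have h2' : π x ∈ Fb := ⟨_, h1, rfl⟩
    refine (QuotientGroup.eq_one_iff x).mp ?_
    show π x = 1
    obtain ⟨i, hi⟩ := IsPGroup.iff_orderOf.mp hTp ⟨x, hMT hx⟩
    rw [Subgroup.orderOf_mk] at hi
    exact orderOf_eq_one_iff.mp (Nat.eq_one_of_dvd_coprimes ((coprime_two hFodd).pow_right i)
      (Subgroup.orderOf_dvd_natCard Fb h2') (hi ▸ orderOf_map_dvd π x))
  haveI hKnil : Group.IsNilpotent K := by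
    let f : K →* Fb := (π.comp K.subtype).codRestrict Fb fun k => hπK.le (mem_map_of_mem π k.2)
    have hf : Function.Injective f := (injective_iff_map_eq_one f).mpr fun k hk => Subtype.ext (mem_bot.mp
      (hKQ.le ⟨k.2, (QuotientGroup.eq_one_iff _).mp (congrArg Subtype.val hk)⟩))
    haveI : Group.IsNilpotent Fb := Cores.isNilpotent_map F Cb.subtype hFnil
    exact Subgroup.isNilpotent_of_ker_le_center f (by rw [(MonoidHom.ker_eq_bot_iff f).mpr hf]; exact bot_le)
  -- a prime at which `M` acts faithfully modulo the involutions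
  obtain ⟨p, hp, hp2, hMp⟩ : ∃ p : ℕ, p.Prime ∧ p ≠ 2 ∧
      ∀ x ∈ M, (∀ k ∈ (pCore p K).map K.subtype, k * x = x * k) → x ∈ V := by
    by_contra hcon
    push_neg at hcon
    have hall : ∀ p : (Nat.card K).primeFactors, ∀ x ∈ M, ∀ k ∈ (pCore (p : ℕ) K).map K.subtype, k * x = x * k := by
      intro p
      have hpp := Nat.prime_of_mem_primeFactors p.2
      haveI := Fact.mk hpp
      obtain ⟨x, hx, hxc, hxV⟩ := hcon p hpp fun h => hKodd (h ▸ Nat.dvd_of_mem_primeFactors p.2)
      set Kp := (pCore (p : ℕ) K).map K.subtype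
      have hle : M ⊓ centralizer (Kp : Set G) ∈ {M : Subgroup G | V < M ∧ M ≤ L' ∧
          ∀ g ∈ N, g ∈ normalizer (T : Set G) → ∀ x ∈ M, g * x * g⁻¹ ∈ M} := by
        refine ⟨lt_of_le_of_ne (le_inf hVM.le fun v hv => mem_centralizer_iff.mpr fun k hk =>
          hKV v hv k (map_subtype_le _ hk)) fun e => hxV (e.ge ⟨hx, mem_centralizer_iff.mpr hxc⟩),
          inf_le_left.trans hML, fun g hg hgT a ha => ⟨hMn g hg hgT a ha.1, mem_centralizer_iff.mpr fun k hk => ?_⟩⟩
        have hk' : g⁻¹ * k * g ∈ Kp := by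
          obtain ⟨k₁, hk₁, rfl⟩ := hk
          have := (characteristic_iff_map_eq.mp (inferInstance : (pCore (p : ℕ) K).Characteristic)
            (K.normalizerMonoidHom ⟨g⁻¹, inv_mem hg⟩)).le ⟨k₁, hk₁, rfl⟩
          refine ⟨_, this, ?_⟩
          show g⁻¹ * (k₁ : G) * g⁻¹⁻¹ = g⁻¹ * k₁ * g
          rw [inv_inv]
        have h := mem_centralizer_iff.mp ha.2 _ hk'
        calc k * (g * a * g⁻¹) = g * ((g⁻¹ * k * g) * a) * g⁻¹ := by group
          _ = _ := by rw [h]; group
      have hge := hMmin.2 hle inf_le_left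
      exact fun x hx k hk => mem_centralizer_iff.mp (hge hx).2 k hk
    refine not_le_of_gt hVM fun x hx => hMK x hx fun k hk => ?_
    have htop : (⊤ : Subgroup K) ≤ (centralizer {x}).comap K.subtype := by
      rw [← (Cores.fittingSubgroup_eq_top_iff (G := K)).mpr hKnil, Cores.fittingSubgroup_eq_iSup]
      exact iSup_le fun p k hk => mem_centralizer_singleton_iff.mpr (hall p x hx _ ⟨k, hk, rfl⟩)
    exact mem_centralizer_singleton_iff.mp (htop (mem_top ⟨k, hk⟩))
  haveI := Fact.mk hp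
  set Kp := (pCore p K).map K.subtype with hKp
  have hKpK : Kp ≤ K := map_subtype_le _
  have hKpp : IsPGroup p Kp := (Cores.pCore_isPGroup p).map _
  have hMnorm : M ≤ normalizer (Kp : Set G) := fun m hm => mem_normalizer_fintype (by
    rintro _ ⟨k₁, hk₁, rfl⟩
    have := (characteristic_iff_map_eq.mp (inferInstance : (pCore p K).Characteristic)
      (K.normalizerMonoidHom ⟨m, hMN hm⟩)).le ⟨k₁, hk₁, rfl⟩
    exact ⟨_, this, rfl⟩)
  let ψ : M →* MulAut Kp := Kp.normalizerMonoidHom.comp (Subgroup.inclusion hMnorm)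
  have hψ : ∀ (m : M) (k : Kp), ((ψ m k : Kp) : G) = m * k * (m : G)⁻¹ := fun m k => rfl
  have hE2 : ∀ e ∈ ψ.range, e * e = 1 := by
    rintro _ ⟨m, rfl⟩
    rw [← map_mul]
    refine MulEquiv.ext fun k => Subtype.ext ?_
    rw [hψ, MulAut.one_apply]
    show (m : G) * m * k * ((m : G) * m)⁻¹ = k
    rw [← hKV _ (hL'sq _ (hML m.2)) k (hKpK k.2), mul_inv_cancel_right]
  obtain ⟨B, hBc, hBp, hBinv, hBf⟩ := exists_abelian hp2 hKpp ψ.range hE2
  letI : CommGroup B := { (inferInstance : Group B) with mul_comm := fun a b => hBc.is_comm.comm a b }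
  -- the quadratic map on `L` modulo the involutions
  have hVc' : ∀ a ∈ V, ∀ b ∈ V, a * b = b * a := fun a ha b hb => hVc a ha b (hVQ hb)
  letI : CommGroup V := { (inferInstance : Group V) with mul_comm := fun a b => Subtype.ext (hVc' a a.2 b b.2) }
  haveI hVLn : (V.subgroupOf L).Normal := inferInstance
  have hAc : ∀ a b : L ⧸ V.subgroupOf L, a * b = b * a := by
    intro a b
    obtain ⟨a, rfl⟩ := QuotientGroup.mk'_surjective _ a
    obtain ⟨b, rfl⟩ := QuotientGroup.mk'_surjective _ b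
    rw [← map_mul, ← map_mul]
    refine QuotientGroup.eq.mpr (mem_subgroupOf.mpr ?_)
    have := hLcom b b.2 (a : G)⁻¹ (inv_mem a.2)
    simpa [mul_assoc] using this
  letI : CommGroup (L ⧸ V.subgroupOf L) := { (inferInstance : Group (L ⧸ V.subgroupOf L)) with mul_comm := hAc }
  have hsqmul : ∀ x ∈ Q, ∀ v ∈ V, x * v * (x * v) = x * x := fun x hx v hv => by
    calc x * v * (x * v) = x * (v * x) * v := by group
      _ = x * x * (v * v) := by rw [hVc v hv x hx]; group
      _ = x * x := by rw [hVexp v hv, mul_one]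
  let q : L ⧸ V.subgroupOf L → V := Quotient.lift (fun x : L => ⟨(x : G) * x, hLsq x x.2⟩) (fun a b h => by
    have h' := mem_subgroupOf.mp (QuotientGroup.leftRel_apply.mp h)
    refine Subtype.ext ?_
    show (a : G) * a = b * b
    calc (a : G) * a = a * ((a : G)⁻¹ * b) * (a * ((a : G)⁻¹ * b)) := (hsqmul a (hLQ a.2) _ h').symm
      _ = _ := by group)
  have hq : ∀ x : L, (q (QuotientGroup.mk x) : G) = (x : G) * x := fun x => rfl
  have hbeta : ∀ x z : L, ((beta q (QuotientGroup.mk x) (QuotientGroup.mk z) : V) : G) = (x : G)⁻¹ * z * x * (z : G)⁻¹ := by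
    intro x z
    show (q (QuotientGroup.mk (x * z)) : G) * q (QuotientGroup.mk x) * q (QuotientGroup.mk z) = _
    rw [hq, hq, hq, Subgroup.coe_mul]
    set d := (x : G)⁻¹ * z * x * (z : G)⁻¹ with hd
    have hdV : d ∈ V := hLcom x x.2 z z.2
    have hx2 := hLsq x x.2
    have hz2 := hLsq z z.2
    calc (x : G) * z * (x * z) * (x * x) * (z * z) = (x * x) * d * (z * z) * (x * x) * (z * z) := by rw [hd]; group
      _ = (x * x) * d * ((z * z) * (x * x)) * (z * z) := by group
      _ = (x * x) * (d * (x * x)) * ((z * z) * (z * z)) := by rw [hVc' _ hz2 _ hx2]; group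
      _ = (x * x) * (x * x) * d * ((z * z) * (z * z)) := by rw [hVc' _ hdV _ hx2]; group
      _ = d := by rw [hVexp _ hx2, hVexp _ hz2, one_mul, mul_one]
  have hQuad : Quad q := by
    refine ⟨fun a => ?_, fun v => Subtype.ext (hVexp v v.2), fun a b c => ?_, fun a ha => ?_⟩
    · obtain ⟨x, rfl⟩ := QuotientGroup.mk'_surjective _ a
      rw [← map_mul]
      exact (QuotientGroup.eq_one_iff _).mpr (mem_subgroupOf.mpr (hLsq x x.2))
    · obtain ⟨x, rfl⟩ := QuotientGroup.mk'_surjective _ a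
      obtain ⟨z, rfl⟩ := QuotientGroup.mk'_surjective _ b
      obtain ⟨w, rfl⟩ := QuotientGroup.mk'_surjective _ c
      refine Subtype.ext ?_
      rw [← map_mul, Subgroup.coe_mul]
      simp only [QuotientGroup.mk'_apply, hbeta, Subgroup.coe_mul]
      set d := (x : G)⁻¹ * w * x * (w : G)⁻¹ with hd
      have hdV : d ∈ V := hLcom x x.2 w w.2
      calc ((x : G) * z)⁻¹ * w * (x * z) * (w : G)⁻¹ = ((z : G)⁻¹ * d) * (w * z * (w : G)⁻¹) := by rw [hd]; group
        _ = (d * (z : G)⁻¹) * (w * z * (w : G)⁻¹) := by rw [hVc d hdV _ (inv_mem (hLQ z.2))]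
        _ = _ := by group
    · obtain ⟨x, rfl⟩ := QuotientGroup.mk'_surjective _ a
      exact (QuotientGroup.eq_one_iff _).mpr (mem_subgroupOf.mpr ((hV x).mp (congrArg Subtype.val ha)))
  have hconjL : ∀ g : G, (V.subgroupOf L).map (MulAut.conjNormal (H := L) g).toMonoidHom = V.subgroupOf L := by
    intro g
    refine le_antisymm ?_ fun x hx => ⟨MulAut.conjNormal (H := L) g⁻¹ x, ?_, ?_⟩
    · rintro _ ⟨x, hx, rfl⟩
      exact mem_subgroupOf.mpr (Normal.conj_mem (H := V) inferInstance _ (mem_subgroupOf.mp hx) g)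
    · refine mem_subgroupOf.mpr ?_
      rw [MulAut.conjNormal_apply]
      exact Normal.conj_mem (H := V) inferInstance _ (mem_subgroupOf.mp hx) g⁻¹
    · refine Subtype.ext ?_
      show g * ((MulAut.conjNormal (H := L) g⁻¹ x : L) : G) * g⁻¹ = x
      rw [MulAut.conjNormal_apply]; group
  let act : G →* MulAut (L ⧸ V.subgroupOf L) := MonoidHom.mk'
    (fun g => QuotientGroup.congr _ _ (MulAut.conjNormal (H := L) g) (hconjL g)) fun a b => MulEquiv.ext fun z => by
      obtain ⟨z, rfl⟩ := QuotientGroup.mk'_surjective _ z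
      show QuotientGroup.mk' _ (MulAut.conjNormal (H := L) (a * b) z) =
        QuotientGroup.mk' _ (MulAut.conjNormal (H := L) a (MulAut.conjNormal (H := L) b z))
      rw [map_mul]; rfl
  have hact : ∀ g (x : L), act g (QuotientGroup.mk x) = QuotientGroup.mk (MulAut.conjNormal (H := L) g x) :=
    fun g x => rfl
  have hqact : ∀ g a, (q (act g a) : G) = g * (q a : G) * g⁻¹ := by
    intro g a
    obtain ⟨x, rfl⟩ := QuotientGroup.mk'_surjective _ a
    show (q (act g (QuotientGroup.mk x)) : G) = g * (q (QuotientGroup.mk x) : G) * g⁻¹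
    rw [hact, hq, hq, MulAut.conjNormal_apply]; group
  have hqfix : ∀ g, g ∈ C → ∀ a, q (act g a) = q a := fun g hg a => Subtype.ext (by
    rw [hqact, ← mem_centralizer_iff.mp hg _ (q a).2, mul_inv_cancel_right])
  let φ : B →* MulAut (L ⧸ V.subgroupOf L) := act.comp (Kp.subtype.comp B.subtype)
  have hBK : ∀ b : B, ((b : Kp) : G) ∈ K := fun b => hKpK (b : Kp).2
  have hφ : Function.Injective φ := by
    refine (injective_iff_map_eq_one φ).mpr fun b hb => Subtype.ext (Subtype.ext ?_)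
    set b' : G := ((b : Kp) : G)
    have hfix : ∀ x ∈ L, b' * x = x * b' := by
      intro x hx
      have h := MulEquiv.congr_fun hb (QuotientGroup.mk ⟨x, hx⟩)
      have h1 : act b' (QuotientGroup.mk ⟨x, hx⟩) = QuotientGroup.mk ⟨x, hx⟩ := h
      rw [hact] at h1
      have h1' := mem_subgroupOf.mp (QuotientGroup.eq.mp h1.symm)
      rw [Subgroup.coe_mul, Subgroup.coe_inv, MulAut.conjNormal_apply] at h1'
      have hd : b' * x * b'⁻¹ * x⁻¹ ∈ V := by
        have := Normal.conj_mem (H := V) inferInstance _ h1' x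
        simpa [mul_assoc] using this
      refine Coprime.OmegaDetect.eq_one_of_fix (hKV _ hd b' (hBK b)) ?_
      exact (Nat.coprime_two_right.mpr (hoddK b' (hBK b))).coprime_dvd_right
        (orderOf_dvd_of_pow_eq_one (by rw [pow_two]; exact hVexp _ hd))
    have := hKQ.le ⟨hBK b, hself (mem_centralizer_iff.mpr fun x hx =>
      (hLdet b' (hQtop.ge (mem_top b')) (hoddK b' (hBK b)) hfix x hx).symm)⟩
    exact mem_bot.mp this
  let σ : ψ.range →* MulAut B :=
    { toFun := fun e =>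
        { toFun := fun b => ⟨(e : MulAut Kp) b, hBinv e e.2 b b.2⟩
          invFun := fun b => ⟨(e : MulAut Kp) b, hBinv e e.2 b b.2⟩
          left_inv := fun b => Subtype.ext (by
            show (e : MulAut Kp) ((e : MulAut Kp) b) = b
            rw [← MulAut.mul_apply, hE2 e e.2, MulAut.one_apply])
          right_inv := fun b => Subtype.ext (by
            show (e : MulAut Kp) ((e : MulAut Kp) b) = b
            rw [← MulAut.mul_apply, hE2 e e.2, MulAut.one_apply])
          map_mul' := fun b c => Subtype.ext (map_mul (e : MulAut Kp) (b : Kp) c) }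
      map_one' := MulEquiv.ext fun b => Subtype.ext rfl
      map_mul' := fun e f => MulEquiv.ext fun b => Subtype.ext rfl }
  have hσ : Function.Injective σ := (injective_iff_map_eq_one σ).mpr fun e he => Subtype.ext
    (hBf e e.2 fun b hb => congrArg Subtype.val (MulEquiv.congr_fun he ⟨b, hb⟩))
  have hσ2 : ∀ e b, σ e (σ e b) = b := fun e b => Subtype.ext (by
    show (e : MulAut Kp) ((e : MulAut Kp) b) = b
    rw [← MulAut.mul_apply, hE2 e e.2, MulAut.one_apply])
  have hψA : ∀ e : ψ.range, ∃ θ : MulAut (L ⧸ V.subgroupOf L), (∀ a, q (θ a) = q a) ∧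
      ∀ b a, θ (φ b a) = φ (σ e b) (θ a) := by
    rintro ⟨_, m, rfl⟩
    refine ⟨act m, hqfix m (hMC m.2), fun b a => ?_⟩
    show act (m : G) (act ((b : Kp) : G) a) = act ((ψ m (b : Kp) : Kp) : G) (act (m : G) a)
    rw [← MulAut.mul_apply, ← map_mul, ← MulAut.mul_apply, ← map_mul, hψ, inv_mul_cancel_right]
  have hcard : Nat.card V ≤ Nat.card ψ.range := by
    have hker : ψ.ker = V.subgroupOf M := by
      ext m
      rw [MonoidHom.mem_ker, mem_subgroupOf]
      constructor
      · intro h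
        refine hMp m m.2 fun k hk => ?_
        have h1 : (m : G) * k * (m : G)⁻¹ = k := congrArg Subtype.val (MulEquiv.congr_fun h ⟨k, hk⟩)
        exact (mul_inv_eq_iff_eq_mul.mp h1).symm
      · intro h
        refine MulEquiv.ext fun k => Subtype.ext ?_
        rw [hψ, MulAut.one_apply, ← hKV _ h k (hKpK k.2), mul_inv_cancel_right]
    rw [← index_ker ψ, hker]
    haveI : (V.subgroupOf M).Normal := inferInstance
    rw [index_eq_card]
    let f : M ⧸ V.subgroupOf M → V := Quotient.lift (fun x : M => ⟨(x : G) * x, hL'sq x (hML x.2)⟩) (fun a b h => by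
      have h' := mem_subgroupOf.mp (QuotientGroup.leftRel_apply.mp h)
      refine Subtype.ext ?_
      show (a : G) * a = b * b
      have h'' : (a : G)⁻¹ * b ∈ V := h'
      have hab : (a : G) * a * (((a : G)⁻¹ * b) * ((a : G)⁻¹ * b)) = a * a := by rw [hVexp _ h'', mul_one]
      calc (a : G) * a = a * a * (((a : G)⁻¹ * b) * ((a : G)⁻¹ * b)) := hab.symm
        _ = a * (a * ((a : G)⁻¹ * b)) * ((a : G)⁻¹ * b) := by group
        _ = a * (((a : G)⁻¹ * b) * a) * ((a : G)⁻¹ * b) := by rw [hTV _ h'' a (hMT a.2)]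
        _ = _ := by group)
    refine Nat.card_le_card_of_surjective f fun v => ?_
    by_cases hv1 : (v : G) = 1
    · exact ⟨QuotientGroup.mk 1, Subtype.ext ((one_mul (1 : G)).trans hv1.symm)⟩
    obtain ⟨x, hx, hxV⟩ := SetLike.exists_of_lt hVM
    obtain ⟨g, hg, hgT, hgv⟩ := hTtrans _ (hL'sq x (hML hx)) v v.2 (fun h => hxV ((hV x).mp h)) hv1
    refine ⟨QuotientGroup.mk ⟨g * x * g⁻¹, hMn g hg hgT x hx⟩, Subtype.ext ?_⟩
    show g * x * g⁻¹ * (g * x * g⁻¹) = v
    rw [← hgv]; group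
  have hfib : ∀ v w : V, v ≠ 1 → w ≠ 1 → Nat.card {a // q a = v} = Nat.card {a // q a = w} := by
    intro v w hv hw
    obtain ⟨g, hg⟩ := hG.conj v w (fun h => hv (Subtype.ext h)) (hVexp v v.2) (fun h => hw (Subtype.ext h))
      (hVexp w w.2)
    refine Nat.card_congr ((act g).toEquiv.subtypeEquiv fun a => ⟨fun h => Subtype.ext ?_, fun h => Subtype.ext ?_⟩)
    · show (q (act g a) : G) = w
      rw [hqact, h, hg]
    · have h' : g * (q a : G) * g⁻¹ = g * (v : G) * g⁻¹ := by
        rw [hg, ← hqact]; exact congrArg Subtype.val h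
      exact mul_left_cancel (mul_right_cancel h')
  have := card_le_two hQuad hp2 (fun b : B => Subtype.ext (hBp b b.2)) φ
    (fun b a => hqfix _ (hKC (hBK b)) a) hφ σ hσ hσ2 hψA hcard hfib
  omega

end Cfsg.Agent.GenA.OneClass
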